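import Mathlib
import Cfsg.Prelude.Def_MonsterType

/-! Elementary facts about large extraspecial 2-subgroups. -/

set_option autoImplicit false

namespace CfsgLib.LargeExtra

open Cfsg

variable {G : Type*} [Group G]

theorem pCore_normal' (p : ℕ) (G : Type*) [Group G] : (pCore p G).Normal := by
  refine ⟨fun n hn g => ?_⟩
  have h : (pCore p G).map (MulAut.conj g).toMonoidHom ≤ pCore p G := by
    rw [pCore, (Subgroup.gc_map_comap _).l_sSup]
    refine iSup₂_le fun N hN => le_sSup_of_le hN ?_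
    rintro x ⟨y, hy, rfl⟩
    exact hN.1.conj_mem y hy g
  exact h ⟨n, hn, rfl⟩

theorem pCore_isPGroup' (p : ℕ) (G : Type*) [Group G] [Finite G] [Fact p.Prime] :
    IsPGroup p (pCore p G) := by
  obtain ⟨P⟩ : Nonempty (Sylow p G) := inferInstance
  refine P.isPGroup'.to_le (sSup_le fun N hN => ?_)
  haveI := hN.1
  obtain ⟨R, hR⟩ := hN.2.exists_le_sylow
  obtain ⟨g, rfl⟩ := MulAction.exists_smul_eq G P R
  intro x hx
  have hx2 : g * x * g⁻¹ ∈ N := hN.1.conj_mem x hx g
  have h := hR hx2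
  rw [Sylow.coe_subgroup_smul] at h
  simpa [Subgroup.mem_smul_pointwise_iff_exists] using h

/-- A subgroup of odd order meets a 2-group trivially. -/
theorem odd_inf_two [Finite G] {K P : Subgroup G} (hK : Odd (Nat.card K)) (hP : IsPGroup 2 P)
    {x : G} (hxK : x ∈ K) (hxP : x ∈ P) : x = 1 := by
  have h1 : orderOf x ∣ Nat.card K := Subgroup.orderOf_dvd_natCard K hxK
  obtain ⟨k, hk⟩ := hP ⟨x, hxP⟩
  have h2 : orderOf x ∣ 2 ^ k := by
    apply orderOf_dvd_of_pow_eq_one
    simpa using congrArg Subtype.val hk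
  have hc : Nat.Coprime (Nat.card K) (2 ^ k) :=
    Nat.Coprime.pow_right _ (Nat.coprime_two_right.mpr hK)
  exact orderOf_eq_one_iff.mp (Nat.eq_one_of_dvd_coprimes hc h1 h2)

theorem extraspecial_two_center {Q : Subgroup G} (hQ : IsExtraspecial 2 Q) :
    ∃ z : G, orderOf z = 2 ∧ z ∈ Q ∧ (Subgroup.center ↥Q).map Q.subtype = Subgroup.zpowers z := by
  haveI : Fact (Nat.Prime 2) := ⟨Nat.prime_two⟩
  obtain ⟨c, hc⟩ := (isCyclic_iff_exists_zpowers_eq_top.mp
    (isCyclic_of_prime_card (α := Subgroup.center ↥Q) hQ.2))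
  refine ⟨((c : ↥Q) : G), ?_, (c : ↥Q).2, ?_⟩
  · rw [Subgroup.orderOf_coe, Subgroup.orderOf_coe, orderOf_eq_card_of_zpowers_eq_top hc]
    exact hQ.2
  · conv_lhs => rw [← show (Subgroup.zpowers c).map (Subgroup.center ↥Q).subtype =
      Subgroup.center ↥Q by rw [hc, ← MonoidHom.range_eq_map, Subgroup.range_subtype]]
    rw [MonoidHom.map_zpowers, MonoidHom.map_zpowers]
    rfl

theorem isPGroup_of_extraspecial {Q : Subgroup G} (hQ : IsExtraspecial 2 Q) : IsPGroup 2 Q :=
  hQ.1.1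

/-- If an odd order subgroup normalized by `Q` centralizes `Z(Q)` then it is trivial. -/
theorem odd_trivial_of_centralizes_centre [Finite G] {Q K : Subgroup G} (hQ : IsExtraspecial 2 Q)
    (hC : Subgroup.centralizer (Q : Set G) = (Subgroup.center ↥Q).map Q.subtype)
    (hN : Subgroup.centralizer (((Subgroup.center ↥Q).map Q.subtype : Subgroup G) : Set G) ≤
      Subgroup.normalizer (Q : Set G))
    (hK : Odd (Nat.card K)) (hQK : Q ≤ Subgroup.normalizer (K : Set G))
    {k : G} (hk : k ∈ K)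
    (hkz : ∀ z ∈ (Subgroup.center ↥Q).map Q.subtype, z * k = k * z) : k = 1 := by
  have hkN := hN (Subgroup.mem_centralizer_iff.mpr hkz)
  have hcent : k ∈ Subgroup.centralizer (Q : Set G) := by
    refine Subgroup.mem_centralizer_iff.mpr fun q hq => ?_
    have h1 : k * q * k⁻¹ * q⁻¹ ∈ Q :=
      mul_mem ((Subgroup.mem_normalizer_iff.mp hkN q).mp hq) (inv_mem hq)
    have h2 : k * q * k⁻¹ * q⁻¹ ∈ K := by
      have := (Subgroup.mem_normalizer_iff.mp (hQK hq) k⁻¹).mp (inv_mem hk)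
      have h3 := mul_mem hk this
      simpa [mul_assoc] using h3
    have h4 := odd_inf_two hK hQ.1.1 h2 h1
    have h5 : k * q * k⁻¹ = q := mul_inv_eq_one.mp h4
    exact (mul_inv_eq_iff_eq_mul.mp h5).symm
  rw [hC] at hcent
  refine odd_inf_two hK hQ.1.1 hk ?_
  obtain ⟨c, -, rfl⟩ := hcent
  exact c.2

/-- An odd order subgroup inverted by two commuting involutions is centralized by their product. -/
theorem commute_mul_of_inverts {a b k : G} (ha : a * k * a⁻¹ = k⁻¹) (hb : b * k * b⁻¹ = k⁻¹) :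
    (a * b) * k = k * (a * b) := by
  have h : (a * b) * k * (a * b)⁻¹ = k := by
    calc (a * b) * k * (a * b)⁻¹ = a * (b * k * b⁻¹) * a⁻¹ := by group
      _ = a * k⁻¹ * a⁻¹ := by rw [hb]
      _ = (a * k * a⁻¹)⁻¹ := by group
      _ = k := by rw [ha, inv_inv]
  exact mul_inv_eq_iff_eq_mul.mp h

/-- An involution fixing no non-identity element of an invariant odd order subgroup inverts it. -/
theorem inverts_of_fixed_point_free [Finite G] {K : Subgroup G} (hK : Odd (Nat.card K)) {b : G}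
    (hb : b ∈ Subgroup.normalizer (K : Set G)) (hb2 : b * b = 1)
    (hfpf : ∀ k ∈ K, b * k = k * b → k = 1) {k : G} (hk : k ∈ K) : b * k * b⁻¹ = k⁻¹ := by
  classical
  -- the map k ↦ k⁻¹ * (b k b⁻¹) is injective, hence onto
  let f : K → K := fun x => ⟨(x : G)⁻¹ * (b * x * b⁻¹),
    mul_mem (inv_mem x.2) ((Subgroup.mem_normalizer_iff.mp hb x).mp x.2)⟩
  have hinj : Function.Injective f := by
    intro x y hxy
    have h : (x : G)⁻¹ * (b * x * b⁻¹) = (y : G)⁻¹ * (b * y * b⁻¹) := congrArg Subtype.val hxy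
    have h2 : (y : G) * (x : G)⁻¹ = b * ((y : G) * (x : G)⁻¹) * b⁻¹ := by
      have := congrArg (fun t => (y : G) * t * (b * (x : G) * b⁻¹)⁻¹) h
      simpa [mul_assoc] using this
    have h3 := hfpf _ (mul_mem y.2 (inv_mem x.2)) (by
      conv_rhs => rw [h2]
      group)
    exact Subtype.ext (mul_inv_eq_one.mp h3).symm
  obtain ⟨x, hx⟩ := (Finite.injective_iff_surjective.mp hinj) ⟨k, hk⟩
  have hkx : (x : G)⁻¹ * (b * x * b⁻¹) = k := congrArg Subtype.val hx
  have hbinv : b⁻¹ = b := inv_eq_of_mul_eq_one_right hb2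
  rw [← hkx, hbinv]
  calc b * ((x : G)⁻¹ * (b * x * b)) * b = b * (x : G)⁻¹ * b * (x : G) * (b * b) := by group
    _ = b * (x : G)⁻¹ * b * (x : G) := by rw [hb2, mul_one]
    _ = (b * (x : G)⁻¹ * b⁻¹) * (x : G) := by rw [hbinv]
    _ = ((x : G)⁻¹ * (b * x * b⁻¹))⁻¹ := by group
    _ = _ := by rw [hbinv]

end CfsgLib.LargeExtra
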