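import Mathlib
import Cfsg.Prelude.Def_MonsterType
import Cfsg.Agent.Lib.LargeExtra.Basic
import Cfsg.Agent.Lib.PGroup.Extraspecial

/-! Extraspecial 2-subgroups handled inside the ambient group. -/

set_option autoImplicit false

namespace CfsgLib.LargeExtra

open Cfsg

variable {G : Type*} [Group G] {Q : Subgroup G} {z : G}

/-- The facts about an extraspecial 2-subgroup `Q` with centre `⟨z⟩` used in this directory. -/
structure ExtraAt (Q : Subgroup G) (z : G) : Prop where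
  extra : IsExtraspecial 2 ↥Q
  order_z : orderOf z = 2
  centre : (Subgroup.center ↥Q).map Q.subtype = Subgroup.zpowers z

theorem ExtraAt.exists_of (hQ : IsExtraspecial 2 ↥Q) : ∃ z, ExtraAt Q z := by
  obtain ⟨z, h1, -, h3⟩ := extraspecial_two_center hQ
  exact ⟨z, hQ, h1, h3⟩

namespace ExtraAt

variable (h : ExtraAt Q z)
include h

theorem ne_one : z ≠ 1 := by
  intro e
  simpa [e] using h.order_z

theorem sq_one : z * z = 1 := by
  rw [← sq, ← h.order_z]
  exact pow_orderOf_eq_one z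

theorem inv_eq : z⁻¹ = z := inv_eq_of_mul_eq_one_right h.sq_one

theorem mem_zpowers_z {x : G} : x ∈ Subgroup.zpowers z ↔ x = 1 ∨ x = z := by
  constructor
  · intro hx
    obtain ⟨n, rfl⟩ := Subgroup.mem_zpowers_iff.mp hx
    rw [← zpow_mod_orderOf, h.order_z]
    rcases Int.emod_two_eq_zero_or_one n with e | e <;> norm_num [e]
  · rintro (rfl | rfl)
    exacts [one_mem _, Subgroup.mem_zpowers _]

theorem z_mem : z ∈ Q := by
  obtain ⟨c, -, hc⟩ := (h.centre ▸ Subgroup.mem_zpowers z : z ∈ (Subgroup.center ↥Q).map Q.subtype)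
  exact hc ▸ c.2

theorem comm_z {q : G} (hq : q ∈ Q) : q * z = z * q := by
  obtain ⟨c, hc, rfl⟩ := (h.centre ▸ Subgroup.mem_zpowers z : z ∈ (Subgroup.center ↥Q).map Q.subtype)
  exact congrArg Subtype.val (Subgroup.mem_center_iff.mp hc ⟨q, hq⟩)

theorem central_cases {x : G} (hx : x ∈ Q) (hcomm : ∀ q ∈ Q, q * x = x * q) : x = 1 ∨ x = z := by
  rw [← h.mem_zpowers_z, ← h.centre]
  exact ⟨⟨x, hx⟩, Subgroup.mem_center_iff.mpr fun q => Subtype.ext (hcomm q q.2), rfl⟩

theorem conj_cases {a b : G} (ha : a ∈ Q) (hb : b ∈ Q) : a * b * a⁻¹ = b ∨ a * b * a⁻¹ = z * b := by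
  have hc : a * b * a⁻¹ * b⁻¹ ∈ (Subgroup.center ↥Q).map Q.subtype := by
    refine ⟨(⟨a, ha⟩ : Q) * ⟨b, hb⟩ * (⟨a, ha⟩ : Q)⁻¹ * (⟨b, hb⟩ : Q)⁻¹, ?_, rfl⟩
    rw [← h.extra.1.2.2]
    exact Subgroup.commutator_mem_commutator (Subgroup.mem_top _) (Subgroup.mem_top _)
  rw [h.centre, h.mem_zpowers_z] at hc
  rcases hc with hc | hc
  · exact Or.inl (mul_inv_eq_one.mp hc)
  · exact Or.inr (mul_inv_eq_iff_eq_mul.mp hc)

theorem sq_cases [Finite G] {a : G} (ha : a ∈ Q) : a * a = 1 ∨ a * a = z := by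
  haveI : Fact (Nat.Prime 2) := ⟨Nat.prime_two⟩
  rw [← h.mem_zpowers_z, ← h.centre]
  refine ⟨(⟨a, ha⟩ : Q) * ⟨a, ha⟩, ?_, rfl⟩
  rw [← sq]
  exact CfsgLib.PGroup.extraspecial_pow_mem_center h.extra _

theorem inv_mem_cases [Finite G] {a : G} (ha : a ∈ Q) : a⁻¹ = a ∨ a⁻¹ = z * a := by
  rcases h.sq_cases ha with e | e
  · exact Or.inl (inv_eq_of_mul_eq_one_right e)
  · refine Or.inr (inv_eq_of_mul_eq_one_left ?_)
    rw [mul_assoc, e, h.sq_one]

/-- A non-central element of `Q` is conjugated to its product with `z`. -/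
theorem exists_conj_eq {s : G} (hs : s ∈ Q) (h1 : s ≠ 1) (h2 : s ≠ z) :
    ∃ y ∈ Q, y * s * y⁻¹ = z * s := by
  by_contra hne
  push Not at hne
  rcases h.central_cases hs fun q hq => mul_inv_eq_iff_eq_mul.mp
    ((h.conj_cases hq hs).resolve_right (hne q hq)) with e | e
  exacts [h1 e, h2 e]

/-- The centralizer of a non-central element has index two in `Q`. -/
theorem split_conj {s y : G} (hs : s ∈ Q) (hy : y ∈ Q) (hys : y * s * y⁻¹ = z * s) {q : G}
    (hq : q ∈ Q) : q * s = s * q ∨ y⁻¹ * q * s = s * (y⁻¹ * q) := by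
  rcases h.conj_cases hq hs with e | e
  · exact Or.inl (mul_inv_eq_iff_eq_mul.mp e)
  · refine Or.inr (mul_inv_eq_iff_eq_mul.mp ?_)
    calc y⁻¹ * q * s * (y⁻¹ * q)⁻¹ = y⁻¹ * (q * s * q⁻¹) * y := by group
      _ = y⁻¹ * (y * s * y⁻¹) * y := by rw [e, hys]
      _ = s := by group

/-- The centralizer in `Q` of the centralizer of `s` is `⟨z, s⟩`. -/
theorem double_centralizer {s y : G} (hs : s ∈ Q) (hy : y ∈ Q) (hys : y * s * y⁻¹ = z * s) {x : G}
    (hx : x ∈ Q) (hxc : ∀ a ∈ Q, a * s = s * a → a * x = x * a) :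
    x = 1 ∨ x = z ∨ x = s⁻¹ ∨ x = z * s⁻¹ := by
  have key : ∀ w ∈ Q, (∀ a ∈ Q, a * s = s * a → a * w = w * a) → y * w = w * y → ∀ q ∈ Q, q * w = w * q := by
    intro w _ hwc hyw q hq
    rcases h.split_conj hs hy hys hq with e | e
    · exact hwc q hq e
    · have h2 := hwc _ (mul_mem (inv_mem hy) hq) e
      calc q * w = y * (y⁻¹ * q * w) := by group
        _ = y * (w * (y⁻¹ * q)) := by rw [h2]
        _ = (y * w) * (y⁻¹ * q) := by group
        _ = w * q := by rw [hyw]; group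
  rcases h.conj_cases hy hx with e | e
  · rcases h.central_cases hx (key x hx hxc (mul_inv_eq_iff_eq_mul.mp e)) with e' | e'
    exacts [Or.inl e', Or.inr (Or.inl e')]
  · have hxs : y * (x * s) = (x * s) * y := by
      refine mul_inv_eq_iff_eq_mul.mp ?_
      calc y * (x * s) * y⁻¹ = (y * x * y⁻¹) * (y * s * y⁻¹) := by group
        _ = z * (x * z) * s := by rw [e, hys]; group
        _ = z * (z * x) * s := by rw [h.comm_z hx]
        _ = x * s := by rw [← mul_assoc z z x, h.sq_one, one_mul]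
    have hcs : ∀ a ∈ Q, a * s = s * a → a * (x * s) = (x * s) * a := fun a ha has => by
      rw [← mul_assoc, hxc a ha has, mul_assoc, has, ← mul_assoc]
    rcases h.central_cases (mul_mem hx hs) (key _ (mul_mem hx hs) hcs hxs) with e' | e'
    · exact Or.inr (Or.inr (Or.inl (mul_eq_one_iff_eq_inv.mp e')))
    · exact Or.inr (Or.inr (Or.inr (eq_mul_inv_iff_mul_eq.mpr e')))

end ExtraAt

end CfsgLib.LargeExtra
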