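import Mathlib
import Cfsg.Prelude.Def_MonsterType
import Cfsg.Agent.Lib.LargeExtra.Extra

/-! An extraspecial subgroup `Q` containing a conjugate `s = g z g⁻¹` of the generator `z` of its
centre: then `z` lies in `Q^g`. -/

set_option autoImplicit false

namespace CfsgLib.LargeExtra

open Cfsg

variable {G : Type*} [Group G] [Finite G]

/-- `Q` is extraspecial, self-centralizing, normal in `C(z)`, and contains `g z g⁻¹ ≠ z`. -/
structure PairAt (Q : Subgroup G) (z g : G) : Prop extends ExtraAt Q z where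
  selfCent : Subgroup.centralizer (Q : Set G) = (Subgroup.center ↥Q).map Q.subtype
  cent_le : Subgroup.centralizer ({z} : Set G) ≤ Subgroup.normalizer (Q : Set G)
  conj_mem : g * z * g⁻¹ ∈ Q
  conj_ne : g * z * g⁻¹ ≠ z

/-- If `a` and `w` move `t` by central involutory signs then `a w a⁻¹ w⁻¹` fixes `t`. -/
theorem comm_aux {H : Type*} [Group H] {a w t σ τ : H} (hσ : σ * σ = 1) (hτ : τ * τ = 1)
    (hσa : a * σ = σ * a) (hσw : w * σ = σ * w) (hτa : a * τ = τ * a) (hτw : w * τ = τ * w)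
    (hστ : σ * τ = τ * σ) (hw : w * t * w⁻¹ = σ * t) (ha : a⁻¹ * t * a = τ * t) :
    a * w * a⁻¹ * w⁻¹ * t = t * (a * w * a⁻¹ * w⁻¹) := by
  have hw' : w⁻¹ * t * w = σ * t := by
    have h1 : w⁻¹ * (σ * t) * w = t := by rw [← hw]; group
    have h2 : w⁻¹ * σ = σ * w⁻¹ := ((show Commute w σ from hσw).inv_left).eq
    calc w⁻¹ * t * w = σ * σ * (w⁻¹ * t * w) := by rw [hσ, one_mul]
      _ = σ * (σ * w⁻¹ * t * w) := by group
      _ = σ * (w⁻¹ * (σ * t) * w) := by rw [← h2]; group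
      _ = σ * t := by rw [h1]
  have ha' : a * t * a⁻¹ = τ * t := by
    have h1 : a * (τ * t) * a⁻¹ = t := by rw [← ha]; group
    calc a * t * a⁻¹ = τ * τ * (a * t * a⁻¹) := by rw [hτ, one_mul]
      _ = τ * (τ * a * t * a⁻¹) := by group
      _ = τ * (a * (τ * t) * a⁻¹) := by rw [← hτa]; group
      _ = τ * t := by rw [h1]
  refine mul_inv_eq_iff_eq_mul.mp ?_
  calc a * w * a⁻¹ * w⁻¹ * t * (a * w * a⁻¹ * w⁻¹)⁻¹
      = a * (w * (a⁻¹ * (w⁻¹ * t * w) * a) * w⁻¹) * a⁻¹ := by group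
    _ = a * (w * (a⁻¹ * σ * t * a) * w⁻¹) * a⁻¹ := by rw [hw']; group
    _ = a * (w * (σ * (a⁻¹ * t * a)) * w⁻¹) * a⁻¹ := by
        rw [((show Commute a σ from hσa).inv_left).eq]; group
    _ = a * ((w * (σ * τ)) * t * w⁻¹) * a⁻¹ := by rw [ha]; group
    _ = a * (σ * τ * (w * t * w⁻¹)) * a⁻¹ := by
        rw [((show Commute w σ from hσw).mul_right hτw).eq]; group
    _ = a * (σ * τ * σ * t) * a⁻¹ := by rw [hw]; group
    _ = a * (τ * t) * a⁻¹ := by rw [hστ, mul_assoc τ σ σ, hσ, mul_one]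
    _ = τ * (a * t * a⁻¹) := by rw [← mul_assoc a τ t, hτa]; group
    _ = t := by rw [ha', ← mul_assoc, hτ, one_mul]

namespace PairAt

variable {Q : Subgroup G} {z g : G} (h : PairAt Q z g)
include h

theorem s_ne_one : g * z * g⁻¹ ≠ 1 := by
  simpa using h.ne_one

theorem s_sq : g * z * g⁻¹ * (g * z * g⁻¹) = 1 := by
  calc g * z * g⁻¹ * (g * z * g⁻¹) = g * (z * z) * g⁻¹ := by group
    _ = 1 := by rw [h.sq_one]; group

theorem s_inv : (g * z * g⁻¹)⁻¹ = g * z * g⁻¹ := inv_eq_of_mul_eq_one_right h.s_sq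

theorem exists_swap : ∃ y ∈ Q, y * (g * z * g⁻¹) * y⁻¹ = z * (g * z * g⁻¹) :=
  h.exists_conj_eq h.conj_mem h.s_ne_one h.conj_ne

theorem mem_W {x : G} : x ∈ Q.map (MulAut.conj g).toMonoidHom ↔ g⁻¹ * x * g ∈ Q := by
  constructor
  · rintro ⟨q, hq, rfl⟩
    simpa [mul_assoc] using hq
  · exact fun hx => ⟨_, hx, by simp [mul_assoc]⟩

theorem s_mem_W : g * z * g⁻¹ ∈ Q.map (MulAut.conj g).toMonoidHom :=
  h.mem_W.mpr (by simpa [mul_assoc] using h.z_mem)

theorem W_comm_s {x : G} (hx : x ∈ Q.map (MulAut.conj g).toMonoidHom) :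
    x * (g * z * g⁻¹) = g * z * g⁻¹ * x := by
  have e := h.comm_z (h.mem_W.mp hx)
  calc x * (g * z * g⁻¹) = g * (g⁻¹ * x * g * z) * g⁻¹ := by group
    _ = g * (z * (g⁻¹ * x * g)) * g⁻¹ := by rw [e]
    _ = g * z * g⁻¹ * x := by group

theorem W_normal {c : G} (hc : c * (g * z * g⁻¹) = g * z * g⁻¹ * c) {x : G}
    (hx : x ∈ Q.map (MulAut.conj g).toMonoidHom) : c * x * c⁻¹ ∈ Q.map (MulAut.conj g).toMonoidHom := by
  have hc' : g⁻¹ * c * g ∈ Subgroup.centralizer ({z} : Set G) := by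
    rw [Subgroup.mem_centralizer_singleton_iff]
    calc g⁻¹ * c * g * z = g⁻¹ * (c * (g * z * g⁻¹)) * g := by group
      _ = g⁻¹ * (g * z * g⁻¹ * c) * g := by rw [hc]
      _ = z * (g⁻¹ * c * g) := by group
  rw [h.mem_W] at hx ⊢
  have := (Subgroup.mem_normalizer_iff.mp (h.cent_le hc') _).mp hx
  simpa [mul_assoc] using this

theorem Q_normal {c : G} (hc : c * z = z * c) {x : G} (hx : x ∈ Q) : c * x * c⁻¹ ∈ Q :=
  (Subgroup.mem_normalizer_iff.mp (h.cent_le (Subgroup.mem_centralizer_singleton_iff.mpr hc)) _).mp hx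

theorem W_conj_cases {a b : G} (ha : a ∈ Q.map (MulAut.conj g).toMonoidHom)
    (hb : b ∈ Q.map (MulAut.conj g).toMonoidHom) :
    a * b * a⁻¹ = b ∨ a * b * a⁻¹ = g * z * g⁻¹ * b := by
  rcases h.conj_cases (h.mem_W.mp ha) (h.mem_W.mp hb) with e | e
  · left
    calc a * b * a⁻¹ = g * (g⁻¹ * a * g * (g⁻¹ * b * g) * (g⁻¹ * a * g)⁻¹) * g⁻¹ := by group
      _ = b := by rw [e]; group
  · right
    calc a * b * a⁻¹ = g * (g⁻¹ * a * g * (g⁻¹ * b * g) * (g⁻¹ * a * g)⁻¹) * g⁻¹ := by group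
      _ = g * z * g⁻¹ * b := by rw [e]; group

theorem W_sq_cases {a : G} (ha : a ∈ Q.map (MulAut.conj g).toMonoidHom) :
    a * a = 1 ∨ a * a = g * z * g⁻¹ := by
  rcases h.sq_cases (h.mem_W.mp ha) with e | e
  · left
    calc a * a = g * (g⁻¹ * a * g * (g⁻¹ * a * g)) * g⁻¹ := by group
      _ = 1 := by rw [e]; group
  · right
    calc a * a = g * (g⁻¹ * a * g * (g⁻¹ * a * g)) * g⁻¹ := by group
      _ = g * z * g⁻¹ := by rw [e]

theorem W_central {x : G} (hx : ∀ w ∈ Q.map (MulAut.conj g).toMonoidHom, w * x = x * w) :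
    x = 1 ∨ x = g * z * g⁻¹ := by
  have hx' : g⁻¹ * x * g ∈ Subgroup.centralizer (Q : Set G) := by
    rw [Subgroup.mem_centralizer_iff]
    intro q hq
    have := hx (g * q * g⁻¹) (h.mem_W.mpr (by simpa [mul_assoc] using hq))
    calc q * (g⁻¹ * x * g) = g⁻¹ * (g * q * g⁻¹ * x) * g := by group
      _ = g⁻¹ * (x * (g * q * g⁻¹)) * g := by rw [this]
      _ = g⁻¹ * x * g * q := by group
  rw [h.selfCent, h.centre, h.mem_zpowers_z] at hx'
  rcases hx' with e | e
  · left; calc x = g * (g⁻¹ * x * g) * g⁻¹ := by group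
      _ = 1 := by rw [e]; group
  · right; calc x = g * (g⁻¹ * x * g) * g⁻¹ := by group
      _ = g * z * g⁻¹ := by rw [e]

/-- The centralizer of `s` in `Q` is non-abelian as soon as `Q` has width at least two. -/
theorem exists_noncomm (hcard : 32 ≤ Nat.card Q) :
    ∃ a ∈ Q, ∃ b ∈ Q, a * (g * z * g⁻¹) = g * z * g⁻¹ * a ∧ b * (g * z * g⁻¹) = g * z * g⁻¹ * b ∧
      a * b * a⁻¹ = z * b := by
  by_contra hne
  push Not at hne
  obtain ⟨y, hy, hys⟩ := h.exists_swap
  let A : Subgroup Q := Subgroup.centralizer ({(⟨g * z * g⁻¹, h.conj_mem⟩ : Q)} : Set Q)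
  have hA : IsMulCommutative A := by
    refine ⟨⟨fun a b => ?_⟩⟩
    have ha := congrArg Subtype.val (Subgroup.mem_centralizer_singleton_iff.mp a.2)
    have hb := congrArg Subtype.val (Subgroup.mem_centralizer_singleton_iff.mp b.2)
    rcases h.conj_cases (a : Q).2 (b : Q).2 with e | e
    · exact Subtype.ext (Subtype.ext (mul_inv_eq_iff_eq_mul.mp e))
    · exact absurd e (hne _ (a : Q).2 _ (b : Q).2 ha hb)
  haveI : Fact (Nat.Prime 2) := ⟨Nat.prime_two⟩
  have hb := CfsgLib.PGroup.extraspecial_abelian_card h.extra A hA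
  -- `Q` is covered by `A` and `yA`
  let f : A × Fin 2 → Q := fun p => if p.2 = 0 then (p.1 : Q) else ⟨y, hy⟩ * (p.1 : Q)
  have hf : Function.Surjective f := by
    intro q
    rcases h.split_conj h.conj_mem hy hys q.2 with e | e
    · exact ⟨(⟨q, Subgroup.mem_centralizer_singleton_iff.mpr (Subtype.ext e)⟩, 0), by simp [f]⟩
    · refine ⟨(⟨(⟨y, hy⟩ : Q)⁻¹ * q, Subgroup.mem_centralizer_singleton_iff.mpr (Subtype.ext e)⟩, 1), ?_⟩
      simp [f]
  have hle := Nat.card_le_card_of_surjective f hf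
  rw [Nat.card_prod, Nat.card_fin] at hle
  nlinarith

/-- The main point: `z` lies in `Q^g`. -/
theorem z_mem_W (hcard : 32 ≤ Nat.card Q) : z ∈ Q.map (MulAut.conj g).toMonoidHom := by
  by_contra hzW
  set s := g * z * g⁻¹ with hs
  set W := Q.map (MulAut.conj g).toMonoidHom with hW
  have hsz : s * z = z * s := h.comm_z h.conj_mem
  obtain ⟨y, hy, hys⟩ := h.exists_swap
  have hyz : y * z = z * y := h.comm_z hy
  -- `z` fixes every element of `W` that it fixes modulo `s`
  have hgood : ∀ u ∈ W, z * u * z⁻¹ = u ∨ z * u * z⁻¹ = s * u → z * u = u * z := by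
    intro u hu
    rintro (e | e)
    · exact mul_inv_eq_iff_eq_mul.mp e
    exfalso
    have hus : u * s = s * u := h.W_comm_s hu
    have huz : u * z * u⁻¹ = z * s := by
      have e' : z * u = s * u * z := mul_inv_eq_iff_eq_mul.mp e
      have e'' : s * (z * u) = u * z := by rw [e', ← mul_assoc, ← mul_assoc, h.s_sq, one_mul]
      calc u * z * u⁻¹ = s * (z * u) * u⁻¹ := by rw [e'']
        _ = z * s := by rw [← mul_assoc, mul_inv_cancel_right, hsz]
    -- `h' = y u` maps `z` to `s` and pulls `z` back into `⟨z, s⟩`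
    have hk : (y * u) * z * (y * u)⁻¹ = s := by
      calc (y * u) * z * (y * u)⁻¹ = (y * z) * s * y⁻¹ := by
            rw [show (y * u) * z * (y * u)⁻¹ = y * (u * z * u⁻¹) * y⁻¹ by group, huz]; group
        _ = z * (y * s * y⁻¹) := by rw [hyz]; group
        _ = s := by rw [hys, ← mul_assoc, h.sq_one, one_mul]
    have hback : (y * u)⁻¹ * z * (y * u) = z * s := by
      have e1 : y⁻¹ * z * y = z := by rw [mul_assoc, ← hyz, inv_mul_cancel_left]
      have e2 : u⁻¹ * (z * s) * u = z := by rw [← huz]; group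
      calc (y * u)⁻¹ * z * (y * u) = u⁻¹ * (y⁻¹ * z * y) * u := by group
        _ = u⁻¹ * z * u := by rw [e1]
        _ = u⁻¹ * (z * s) * (s * u) := by
            rw [show u⁻¹ * (z * s) * (s * u) = u⁻¹ * z * (s * s) * u by group, h.s_sq, mul_one]
        _ = u⁻¹ * (z * s) * u * s := by rw [← hus]; group
        _ = z * s := by rw [e2]
    have hc : g⁻¹ * (y * u) ∈ Subgroup.centralizer ({z} : Set G) := by
      rw [Subgroup.mem_centralizer_singleton_iff]
      calc g⁻¹ * (y * u) * z = g⁻¹ * ((y * u) * z * (y * u)⁻¹) * (y * u) := by group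
        _ = z * (g⁻¹ * (y * u)) := by rw [hk, hs]; group
    refine hzW (h.mem_W.mpr ?_)
    have hm : (y * u)⁻¹ * z * (y * u) ∈ Q := hback ▸ mul_mem h.z_mem h.conj_mem
    have := (Subgroup.mem_normalizer_iff.mp (h.cent_le hc) _).mp hm
    simpa [mul_assoc] using this
  -- the centralizer of `s` in `Q` moves `C_W(z)` into `⟨s⟩`
  have hE : ∀ a ∈ Q, a * s = s * a → ∀ t ∈ W, z * t = t * z →
      a * t * a⁻¹ = t ∨ a * t * a⁻¹ = s * t := by
    intro a ha has t ht htz
    set e := a * t * a⁻¹ * t⁻¹ with he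
    have heW : e ∈ W := mul_mem (h.W_normal has ht) (inv_mem ht)
    have heQ : e ∈ Q := by
      have := mul_mem ha (h.Q_normal htz.symm (inv_mem ha))
      rw [he]; simpa [mul_assoc] using this
    have hec : ∀ b ∈ Q, b * s = s * b → b * e = e * b := by
      intro b hb hbs
      rcases h.conj_cases hb heQ with e' | e'
      · exact mul_inv_eq_iff_eq_mul.mp e'
      · refine absurd ?_ hzW
        have := mul_mem (h.W_normal hbs heW) (inv_mem heW)
        rwa [e', mul_inv_cancel_right] at this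
    rcases h.double_centralizer h.conj_mem hy hys heQ hec with e' | e' | e' | e'
    · exact Or.inl (mul_inv_eq_one.mp e')
    · exact absurd (e' ▸ heW) hzW
    · rw [h.s_inv] at e'
      exact Or.inr (mul_inv_eq_iff_eq_mul.mp e')
    · rw [h.s_inv] at e'
      refine absurd ?_ hzW
      have := mul_mem (e' ▸ heW) h.s_mem_W
      rwa [mul_assoc, h.s_sq, mul_one] at this
  -- `[a, W]` is centralized by `C_W(z)`, hence by `z`
  have hperp : ∀ a ∈ Q, a * s = s * a → ∀ w ∈ W,
      z * (a * w * a⁻¹ * w⁻¹) = a * w * a⁻¹ * w⁻¹ * z := by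
    intro a ha has w hw
    set x := a * w * a⁻¹ * w⁻¹ with hx
    have hxW : x ∈ W := mul_mem (h.W_normal has hw) (inv_mem hw)
    have hxT : ∀ t ∈ W, z * t = t * z → x * t = t * x := by
      intro t ht htz
      have haW : a⁻¹ * t * a = t ∨ a⁻¹ * t * a = s * t := by
        have has' : a⁻¹ * s = s * a⁻¹ := ((show Commute a s from has).inv_left).eq
        simpa using hE a⁻¹ (inv_mem ha) has' t ht htz
      have hsa : a * s = s * a := has
      have hsw : w * s = s * w := h.W_comm_s hw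
      obtain ⟨σ, hσ, hσm⟩ : ∃ σ, w * t * w⁻¹ = σ * t ∧ (σ = 1 ∨ σ = s) := by
        rcases h.W_conj_cases hw ht with e | e
        exacts [⟨1, by rw [e, one_mul], Or.inl rfl⟩, ⟨s, e, Or.inr rfl⟩]
      obtain ⟨τ, hτ, hτm⟩ : ∃ τ, a⁻¹ * t * a = τ * t ∧ (τ = 1 ∨ τ = s) := by
        rcases haW with e | e
        exacts [⟨1, by rw [e, one_mul], Or.inl rfl⟩, ⟨s, e, Or.inr rfl⟩]
      rw [hx]
      refine comm_aux (σ := σ) (τ := τ) ?_ ?_ ?_ ?_ ?_ ?_ ?_ hσ hτ <;>
        rcases hσm with rfl | rfl <;> rcases hτm with rfl | rfl <;>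
        first | simp only [one_mul, mul_one] | exact h.s_sq | exact hsa | exact hsw | rfl
    -- `z` fixes `x` modulo `s`
    refine hgood x hxW ?_
    have hsz' : z * s = s * z := hsz.symm
    have hzs : ∀ v ∈ W, z * v * z⁻¹ ∈ W := fun v hv => h.W_normal hsz' hv
    set d := z * x * z⁻¹ * x⁻¹ with hd
    have hdW : d ∈ W := mul_mem (hzs x hxW) (inv_mem hxW)
    suffices hcent : ∀ v ∈ W, v * d = d * v by
      rcases h.W_central hcent with e | e
      · exact Or.inl (mul_inv_eq_one.mp e)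
      · exact Or.inr (mul_inv_eq_iff_eq_mul.mp e)
    intro v hv
    -- `r = [z, v]` is fixed by `z`, so commutes with `x`
    set r := z * v * z⁻¹ * v⁻¹ with hr
    have hrW : r ∈ W := mul_mem (hzs v hv) (inv_mem hv)
    have hrz : z * r = r * z := by
      refine hgood r hrW ?_
      have e1 : z * r * z⁻¹ = r⁻¹ := by
        rw [hr]
        calc z * (z * v * z⁻¹ * v⁻¹) * z⁻¹ = (z * z) * v * z⁻¹ * v⁻¹ * z⁻¹ := by group
          _ = v * z * v⁻¹ * z⁻¹ := by rw [h.sq_one, h.inv_eq, one_mul]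
          _ = _ := by group
      rcases h.W_sq_cases hrW with e2 | e2
      · exact Or.inl (e1.trans (inv_eq_of_mul_eq_one_right e2))
      · refine Or.inr (e1.trans (inv_eq_of_mul_eq_one_left ?_))
        rw [mul_assoc, e2, h.s_sq]
    have hxr : x * r = r * x := hxT r hrW hrz
    -- hence `z v z⁻¹` and `v` move `x` in the same way
    have hv1 : z * v * z⁻¹ * x * (z * v * z⁻¹)⁻¹ = v * x * v⁻¹ := by
      rw [show z * v * z⁻¹ = r * v by rw [hr]; group]
      rcases h.W_conj_cases hv hxW with e | e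
      · calc r * v * x * (r * v)⁻¹ = r * (v * x * v⁻¹) * r⁻¹ := by group
          _ = r * x * r⁻¹ := by rw [e]
          _ = v * x * v⁻¹ := by rw [e, ← hxr]; group
      · calc r * v * x * (r * v)⁻¹ = r * (v * x * v⁻¹) * r⁻¹ := by group
          _ = r * (s * x) * r⁻¹ := by rw [e]
          _ = (r * s) * x * r⁻¹ := by group
          _ = s * (r * x) * r⁻¹ := by rw [show r * s = s * r from h.W_comm_s hrW]; group
          _ = v * x * v⁻¹ := by rw [e, ← hxr, mul_assoc s, mul_inv_cancel_right]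
    -- so `v` moves `z x z⁻¹` like it moves `x`
    have hv2 : z * v * z⁻¹ * (z * x * z⁻¹) * (z * v * z⁻¹)⁻¹ = z * (v * x * v⁻¹) * z⁻¹ := by group
    have hv3 : v * (z * x * z⁻¹) * v⁻¹ = z * (z * v * z⁻¹ * x * (z * v * z⁻¹)⁻¹) * z⁻¹ := by
      rw [h.inv_eq]
      calc v * (z * x * z) * v⁻¹ = (z * z) * v * z * x * z * v⁻¹ * (z * z) := by rw [h.sq_one]; group
        _ = z * (z * v * z * x * (z * v * z)⁻¹) * z := by
            rw [show (z * v * z)⁻¹ = z⁻¹ * v⁻¹ * z⁻¹ by group, h.inv_eq]; group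
    rw [hv1] at hv3
    have hx' : v * x * v⁻¹ = x ∨ v * x * v⁻¹ = s * x := h.W_conj_cases hv hxW
    have hfin : v * d * v⁻¹ = d := by
      rcases hx' with e | e
      · calc v * d * v⁻¹ = (v * (z * x * z⁻¹) * v⁻¹) * (v * x * v⁻¹)⁻¹ := by rw [hd]; group
          _ = d := by rw [hv3, e]
      · calc v * d * v⁻¹ = (v * (z * x * z⁻¹) * v⁻¹) * (v * x * v⁻¹)⁻¹ := by rw [hd]; group
          _ = (z * s) * x * z⁻¹ * x⁻¹ * s⁻¹ := by rw [hv3, e]; group
          _ = s * (z * x * z⁻¹ * x⁻¹) * s⁻¹ := by rw [hsz']; group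
          _ = d := by rw [← hd, ← (show d * s = s * d from h.W_comm_s hdW)]; group
    exact mul_inv_eq_iff_eq_mul.mp hfin
  -- the actions of two elements on `W` modulo `s` commute, so `z` is trivial there
  obtain ⟨a, ha, b, hb, has, hbs, hab⟩ := h.exists_noncomm hcard
  have hzW' : ∀ w ∈ W, z * w = w * z := by
    intro w hw
    refine hgood w hw ?_
    set x := a * w * a⁻¹ * w⁻¹ with hx
    set x' := b * w * b⁻¹ * w⁻¹ with hx'
    have hxW : x ∈ W := mul_mem (h.W_normal has hw) (inv_mem hw)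
    have hx'W : x' ∈ W := mul_mem (h.W_normal hbs hw) (inv_mem hw)
    have e1 := hE b hb hbs x hxW (hperp a ha has w hw)
    have e2 := hE a ha has x' hx'W (hperp b hb hbs w hw)
    have f1 : b * (a * w * a⁻¹) * b⁻¹ = (b * x * b⁻¹) * (x' * w) := by rw [hx, hx']; group
    have f2 : a * (b * w * b⁻¹) * a⁻¹ = (a * x' * a⁻¹) * (x * w) := by rw [hx, hx']; group
    have hzz : z * (b * a) = a * b := by
      rw [← mul_assoc, ← hab]; group
    -- both sides agree modulo `s`
    have hM : ∀ {u v c : G}, (u = v ∨ u = s * v) → (u * c = v * c ∨ u * c = s * (v * c)) := by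
      rintro u v c (e | e)
      · exact Or.inl (by rw [e])
      · exact Or.inr (by rw [e, mul_assoc])
    have hMs : ∀ {u v : G}, (u = v ∨ u = s * v) → (v = u ∨ v = s * u) := by
      rintro u v (e | e)
      · exact Or.inl e.symm
      · exact Or.inr (by rw [e, ← mul_assoc, h.s_sq, one_mul])
    have hMt : ∀ {u v c : G}, (u = v ∨ u = s * v) → (v = c ∨ v = s * c) → (u = c ∨ u = s * c) := by
      rintro u v c (e | e) (e' | e') <;> rw [e, e']
      · exact Or.inl rfl
      · exact Or.inr rfl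
      · exact Or.inr rfl
      · exact Or.inl (by rw [← mul_assoc, h.s_sq, one_mul])
    have hxx : x' * x = x * x' ∨ x' * x = s * (x * x') := by
      rcases h.W_conj_cases hx'W hxW with e | e
      · exact Or.inl (mul_inv_eq_iff_eq_mul.mp e)
      · exact Or.inr (by rw [mul_inv_eq_iff_eq_mul.mp e, mul_assoc])
    have hsame : a * (b * w * b⁻¹) * a⁻¹ = b * (a * w * a⁻¹) * b⁻¹ ∨
        a * (b * w * b⁻¹) * a⁻¹ = s * (b * (a * w * a⁻¹) * b⁻¹) := by
      rw [f1, f2]
      refine hMt (hM e2) ?_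
      rw [← mul_assoc x' x w]
      refine hMt (hM hxx) ?_
      rw [mul_assoc x x' w]
      exact hMs (hM e1)
    have hconjs : ∀ t : G, t * s = s * t → z * (s * t) * z⁻¹ = s * (z * t * z⁻¹) := fun t _ => by
      rw [← mul_assoc z s t, hsz.symm]; group
    have hz_eq : a * (b * w * b⁻¹) * a⁻¹ = z * (b * (a * w * a⁻¹) * b⁻¹) * z⁻¹ := by
      rw [show a * (b * w * b⁻¹) * a⁻¹ = a * b * w * (a * b)⁻¹ by group, ← hzz]
      group
    -- transport to `w`
    have hba : ∀ t ∈ W, (z * t * z⁻¹ = t ∨ z * t * z⁻¹ = s * t) →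
        z * ((b * a)⁻¹ * t * (b * a)) * z⁻¹ = (b * a)⁻¹ * t * (b * a) ∨
        z * ((b * a)⁻¹ * t * (b * a)) * z⁻¹ = s * ((b * a)⁻¹ * t * (b * a)) := by
      intro t _ ht
      have hcz : Commute z (b * a) := (show Commute z b from (h.comm_z hb).symm).mul_right (h.comm_z ha).symm
      have hcs : Commute s (b * a) := (show Commute s b from hbs.symm).mul_right has.symm
      have : z * ((b * a)⁻¹ * t * (b * a)) * z⁻¹ = (b * a)⁻¹ * (z * t * z⁻¹) * (b * a) := by
        rw [show z * ((b * a)⁻¹ * t * (b * a)) * z⁻¹ = (z * (b * a)⁻¹) * t * ((b * a) * z⁻¹) by group,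
          hcz.inv_right.eq, ← hcz.inv_left.eq]
        group
      rw [this]
      rcases ht with e | e
      · exact Or.inl (by rw [e])
      · refine Or.inr ?_
        rw [e, show (b * a)⁻¹ * (s * t) * (b * a) = ((b * a)⁻¹ * s) * t * (b * a) by group, ← hcs.inv_right.eq]
        group
    have hbaW : b * (a * w * a⁻¹) * b⁻¹ ∈ W := h.W_normal hbs (h.W_normal has hw)
    have := hba _ hbaW (by rw [← hz_eq]; exact hsame)
    have e4 : (b * a)⁻¹ * (b * (a * w * a⁻¹) * b⁻¹) * (b * a) = w := by group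
    rwa [e4] at this
  rcases h.W_central (fun w hw => (hzW' w hw).symm) with e | e
  · exact h.ne_one e
  · exact h.conj_ne e.symm

/-- Some element of `Q^g` moves `z` to `z * s`. -/
theorem exists_swap' (hcard : 32 ≤ Nat.card Q) : ∃ u ∈ Q.map (MulAut.conj g).toMonoidHom,
    u * z * u⁻¹ = g * z * g⁻¹ * z := by
  by_contra hne
  push Not at hne
  have hzW := h.z_mem_W hcard
  rcases h.W_central (x := z) (fun w hw => mul_inv_eq_iff_eq_mul.mp
    ((h.W_conj_cases hw hzW).resolve_right (hne w hw))) with e | e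
  exacts [h.ne_one e, h.conj_ne e.symm]

/-- `Q` normalizes no non-trivial subgroup of odd order. -/
theorem isLarge (hcard : 32 ≤ Nat.card Q) : IsLargeExtraspecial Q := by
  have hN : Subgroup.centralizer (((Subgroup.center ↥Q).map Q.subtype : Subgroup G) : Set G) ≤
      Subgroup.normalizer (Q : Set G) := by
    refine le_trans (Subgroup.centralizer_le ?_) h.cent_le
    simp [h.centre]
  refine ⟨h.extra, h.selfCent, hN, fun K hK hQK => ?_⟩
  have hfix : ∀ k ∈ K, z * k = k * z → k = 1 := fun k hk hkz => by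
    refine odd_trivial_of_centralizes_centre h.extra h.selfCent hN hK hQK hk fun t ht => ?_
    rw [h.centre] at ht
    obtain ⟨n, rfl⟩ := Subgroup.mem_zpowers_iff.mp ht
    exact (Commute.zpow_left hkz n).eq
  have hsfix : ∀ k ∈ K, g * z * g⁻¹ * k = k * (g * z * g⁻¹) → k = 1 := by
    intro k hk hks
    refine hfix k hk ?_
    have h1 : z * k * z⁻¹ * k⁻¹ ∈ K :=
      mul_mem ((Subgroup.mem_normalizer_iff.mp (hQK h.z_mem) k).mp hk) (inv_mem hk)
    have h2 : z * k * z⁻¹ * k⁻¹ ∈ Q.map (MulAut.conj g).toMonoidHom := by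
      have := mul_mem (h.z_mem_W hcard) (h.W_normal hks.symm (inv_mem (h.z_mem_W hcard)))
      simpa [mul_assoc] using this
    have h3 := odd_inf_two hK ((isPGroup_of_extraspecial h.extra).map _) h1 h2
    exact mul_inv_eq_iff_eq_mul.mp (mul_inv_eq_one.mp h3)
  have hinvs : ∀ k ∈ K, g * z * g⁻¹ * k * (g * z * g⁻¹)⁻¹ = k⁻¹ :=
    fun k hk => inverts_of_fixed_point_free hK (hQK h.conj_mem) h.s_sq hsfix hk
  obtain ⟨y, hy, hys⟩ := h.exists_swap
  rw [Subgroup.eq_bot_iff_forall]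
  intro k hk
  refine hfix k hk ?_
  have hk' : y⁻¹ * k * y ∈ K := by
    simpa using (Subgroup.mem_normalizer_iff.mp (hQK (inv_mem hy)) k).mp hk
  have hzs : (z * (g * z * g⁻¹)) * k * (z * (g * z * g⁻¹))⁻¹ = k⁻¹ := by
    rw [← hys]
    calc y * (g * z * g⁻¹) * y⁻¹ * k * (y * (g * z * g⁻¹) * y⁻¹)⁻¹
        = y * (g * z * g⁻¹ * (y⁻¹ * k * y) * (g * z * g⁻¹)⁻¹) * y⁻¹ := by group
      _ = y * (y⁻¹ * k * y)⁻¹ * y⁻¹ := by rw [hinvs _ hk']
      _ = k⁻¹ := by group
  have := commute_mul_of_inverts hzs (hinvs k hk)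
  rwa [mul_assoc z, h.s_sq, mul_one] at this

end PairAt

end CfsgLib.LargeExtra
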