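import Mathlib
import Cfsg.Prelude.Def_MonsterType
import Cfsg.Agent.Lib.LargeExtra.Pair

/-! The group generated by `Q` and `Q^g` when `s = g z g⁻¹ ∈ Q`, `s ≠ z`. -/

set_option autoImplicit false

namespace CfsgLib.LargeExtra

open Cfsg

variable {G : Type*} [Group G]

/-- `Q ∩ C(s)`. -/
def sideA (Q : Subgroup G) (z g : G) : Subgroup G := Q ⊓ Subgroup.centralizer ({g * z * g⁻¹} : Set G)

/-- `Q^g ∩ C(z)`. -/
def sideB (Q : Subgroup G) (z g : G) : Subgroup G :=
  Q.map (MulAut.conj g).toMonoidHom ⊓ Subgroup.centralizer ({z} : Set G)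

/-- The radical `(Q^g ∩ C(z))(Q ∩ C(s))`. -/
def radR (Q : Subgroup G) (z g : G) : Subgroup G := sideB Q z g ⊔ sideA Q z g

/-- `⟨Q, Q^g⟩`. -/
def genX (Q : Subgroup G) (g : G) : Subgroup G := Q ⊔ Q.map (MulAut.conj g).toMonoidHom

/-- `⟨z, s⟩`. -/
def fourV (z g : G) : Subgroup G := Subgroup.closure ({z, g * z * g⁻¹} : Set G)

/-- The three points permuted by `⟨Q, Q^g⟩`. -/
def threePts (z g : G) : Set G := {z, g * z * g⁻¹, z * (g * z * g⁻¹)}

variable [Finite G] {Q : Subgroup G} {z g : G}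

namespace PairAt

variable (h : PairAt Q z g)
include h

theorem mem_sideA {x : G} : x ∈ sideA Q z g ↔ x ∈ Q ∧ x * (g * z * g⁻¹) = g * z * g⁻¹ * x :=
  and_congr_right fun _ => Subgroup.mem_centralizer_singleton_iff

theorem mem_sideB {x : G} : x ∈ sideB Q z g ↔ x ∈ Q.map (MulAut.conj g).toMonoidHom ∧ x * z = z * x :=
  and_congr_right fun _ => Subgroup.mem_centralizer_singleton_iff

theorem s_comm : g * z * g⁻¹ * z = z * (g * z * g⁻¹) := h.comm_z h.conj_mem

theorem zs_sq : z * (g * z * g⁻¹) * (z * (g * z * g⁻¹)) = 1 := by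
  calc z * (g * z * g⁻¹) * (z * (g * z * g⁻¹)) = z * (g * z * g⁻¹ * z) * (g * z * g⁻¹) := by group
    _ = z * (z * (g * z * g⁻¹)) * (g * z * g⁻¹) := by rw [h.s_comm]
    _ = (z * z) * (g * z * g⁻¹ * (g * z * g⁻¹)) := by group
    _ = 1 := by rw [h.sq_one, h.s_sq, one_mul]

theorem zs_ne_one : z * (g * z * g⁻¹) ≠ 1 := by
  intro e
  refine h.conj_ne ?_
  rw [mul_eq_one_iff_eq_inv, h.s_inv] at e
  exact e.symm

theorem z_ne_zs : z ≠ z * (g * z * g⁻¹) := fun e => h.s_ne_one (mul_eq_left.mp e.symm)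

theorem s_ne_zs : g * z * g⁻¹ ≠ z * (g * z * g⁻¹) := fun e => h.ne_one (mul_eq_right.mp e.symm)

theorem mem_fourV {x : G} : x ∈ fourV z g ↔ x = 1 ∨ x ∈ threePts z g := by
  constructor
  · intro hx
    have hss := h.s_sq
    have hzz := h.sq_one
    induction hx using Subgroup.closure_induction with
    | mem x hx =>
      rcases hx with rfl | rfl
      exacts [Or.inr (Or.inl rfl), Or.inr (Or.inr (Or.inl rfl))]
    | one => exact Or.inl rfl
    | mul a b _ _ ha hb =>
      rcases ha with rfl | rfl | rfl | rfl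
      · rw [one_mul]; exact hb
      all_goals rcases hb with rfl | rfl | rfl | rfl
      · exact Or.inr (Or.inl (mul_one _))
      · exact Or.inl hzz
      · exact Or.inr (Or.inr (Or.inr rfl))
      · exact Or.inr (Or.inr (Or.inl (by rw [← mul_assoc, hzz, one_mul])))
      · exact Or.inr (Or.inr (Or.inl (mul_one _)))
      · exact Or.inr (Or.inr (Or.inr h.s_comm))
      · exact Or.inl hss
      · exact Or.inr (Or.inl (by rw [← mul_assoc, h.s_comm, mul_assoc, hss, mul_one]))
      · exact Or.inr (Or.inr (Or.inr (mul_one _)))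
      · exact Or.inr (Or.inr (Or.inl (by rw [mul_assoc, h.s_comm, ← mul_assoc, hzz, one_mul])))
      · exact Or.inr (Or.inl (by rw [mul_assoc, hss, mul_one]))
      · exact Or.inl h.zs_sq
    | inv a _ ha =>
      rcases ha with rfl | rfl | rfl | rfl
      · exact Or.inl inv_one
      · exact Or.inr (Or.inl h.inv_eq)
      · exact Or.inr (Or.inr (Or.inl h.s_inv))
      · exact Or.inr (Or.inr (Or.inr (inv_eq_of_mul_eq_one_right h.zs_sq)))
  · rintro (rfl | rfl | rfl | rfl)
    exacts [one_mem _, Subgroup.subset_closure (Or.inl rfl), Subgroup.subset_closure (Or.inr rfl),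
      mul_mem (Subgroup.subset_closure (Or.inl rfl)) (Subgroup.subset_closure (Or.inr rfl))]

theorem mem_centralizer_fourV {x : G} : x ∈ Subgroup.centralizer (fourV z g : Set G) ↔
    x * z = z * x ∧ x * (g * z * g⁻¹) = g * z * g⁻¹ * x := by
  rw [fourV, Subgroup.centralizer_closure, Subgroup.mem_centralizer_iff]
  constructor
  · exact fun hx => ⟨(hx z (Or.inl rfl)).symm, (hx _ (Or.inr rfl)).symm⟩
  · rintro ⟨h1, h2⟩ _ (rfl | rfl)
    exacts [h1.symm, h2.symm]

theorem sideA_le_centralizer : sideA Q z g ≤ Subgroup.centralizer (fourV z g : Set G) := by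
  intro x hx
  rw [h.mem_sideA] at hx
  exact h.mem_centralizer_fourV.mpr ⟨h.comm_z hx.1, hx.2⟩

theorem sideB_le_centralizer : sideB Q z g ≤ Subgroup.centralizer (fourV z g : Set G) := by
  intro x hx
  rw [h.mem_sideB] at hx
  exact h.mem_centralizer_fourV.mpr ⟨hx.2, h.W_comm_s hx.1⟩

theorem radR_le_centralizer : radR Q z g ≤ Subgroup.centralizer (fourV z g : Set G) :=
  sup_le h.sideB_le_centralizer h.sideA_le_centralizer

theorem centralizer_conj_sideA {c a : G} (hc : c ∈ Subgroup.centralizer (fourV z g : Set G))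
    (ha : a ∈ sideA Q z g) : c * a * c⁻¹ ∈ sideA Q z g := by
  obtain ⟨hcz, hcs⟩ := h.mem_centralizer_fourV.mp hc
  rw [h.mem_sideA] at ha ⊢
  exact ⟨h.Q_normal hcz ha.1, (((show Commute c (g * z * g⁻¹) from hcs).mul_left
    (show Commute a (g * z * g⁻¹) from ha.2)).mul_left
      (show Commute c (g * z * g⁻¹) from hcs).inv_left).eq⟩

theorem centralizer_conj_sideB {c b : G} (hc : c ∈ Subgroup.centralizer (fourV z g : Set G))
    (hb : b ∈ sideB Q z g) : c * b * c⁻¹ ∈ sideB Q z g := by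
  obtain ⟨hcz, hcs⟩ := h.mem_centralizer_fourV.mp hc
  rw [h.mem_sideB] at hb ⊢
  exact ⟨h.W_normal hcs hb.1, (((show Commute c z from hcz).mul_left (show Commute b z from hb.2)).mul_left
    (show Commute c z from hcz).inv_left).eq⟩

theorem exists_mul_of_mem_radR {x : G} (hx : x ∈ radR Q z g) :
    ∃ b ∈ sideB Q z g, ∃ a ∈ sideA Q z g, x = b * a := by
  rw [radR, Subgroup.sup_eq_closure] at hx
  induction hx using Subgroup.closure_induction with
  | mem x hx =>
    rcases hx with hx | hx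
    · exact ⟨x, hx, 1, one_mem _, (mul_one x).symm⟩
    · exact ⟨1, one_mem _, x, hx, (one_mul x).symm⟩
  | one => exact ⟨1, one_mem _, 1, one_mem _, (mul_one 1).symm⟩
  | mul u v _ _ hu hv =>
    obtain ⟨b, hb, a, ha, rfl⟩ := hu
    obtain ⟨b', hb', a', ha', rfl⟩ := hv
    refine ⟨b * b', mul_mem hb hb', b'⁻¹ * a * b'⁻¹⁻¹ * a',
      mul_mem (h.centralizer_conj_sideA (h.sideB_le_centralizer (inv_mem hb')) ha) ha', ?_⟩
    group
  | inv u _ hu =>
    obtain ⟨b, hb, a, ha, rfl⟩ := hu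
    refine ⟨b⁻¹, inv_mem hb, b * a⁻¹ * b⁻¹,
      h.centralizer_conj_sideA (h.sideB_le_centralizer hb) (inv_mem ha), ?_⟩
    group

theorem radR_isPGroup : IsPGroup 2 (radR Q z g) := by
  refine IsPGroup.to_sup_of_normal_right' ((isPGroup_of_extraspecial h.extra).map _ |>.to_le inf_le_left)
    ((isPGroup_of_extraspecial h.extra).to_le inf_le_left) ?_
  intro b hb
  rw [Subgroup.mem_normalizer_iff]
  intro a
  refine ⟨fun ha => h.centralizer_conj_sideA (h.sideB_le_centralizer hb) ha, fun ha => ?_⟩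
  have := h.centralizer_conj_sideA (h.sideB_le_centralizer (inv_mem hb)) ha
  simpa [mul_assoc] using this

theorem genX_perm {x : G} (hx : x ∈ genX Q g) (hcard : 32 ≤ Nat.card Q) :
    ∀ t ∈ fourV z g, x * t * x⁻¹ ∈ fourV z g := by
  have hzW := h.z_mem_W hcard
  have hzV : z ∈ fourV z g := Subgroup.subset_closure (Or.inl rfl)
  have hsV : g * z * g⁻¹ ∈ fourV z g := Subgroup.subset_closure (Or.inr rfl)
  rw [genX, Subgroup.sup_eq_closure] at hx
  induction hx using Subgroup.closure_induction with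
  | mem x hx =>
    intro t ht
    rcases hx with hx | hx
    · have htQ : t ∈ Q := by
        refine (Subgroup.closure_le Q).mpr ?_ ht
        rintro _ (rfl | rfl)
        exacts [h.z_mem, h.conj_mem]
      rcases h.conj_cases hx htQ with e | e <;> rw [e]
      exacts [ht, mul_mem hzV ht]
    · have htW : t ∈ Q.map (MulAut.conj g).toMonoidHom := by
        refine (Subgroup.closure_le _).mpr ?_ ht
        rintro _ (rfl | rfl)
        exacts [hzW, h.s_mem_W]
      rcases h.W_conj_cases hx htW with e | e <;> rw [e]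
      exacts [ht, mul_mem hsV ht]
  | one => intro t ht; simpa using ht
  | mul u v _ _ hu hv =>
    intro t ht
    simpa [mul_assoc] using hu _ (hv t ht)
  | inv u _ hu =>
    intro t ht
    -- conjugation by `u` is injective, hence onto, on the finite group `V`
    let f : fourV z g → fourV z g := fun w => ⟨u * w * u⁻¹, hu w w.2⟩
    have hf : Function.Injective f := fun a b e =>
      Subtype.ext (mul_left_cancel (mul_right_cancel (congrArg Subtype.val e : u * (a : G) * u⁻¹ = u * b * u⁻¹)))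
    obtain ⟨w, hw⟩ := Finite.surjective_of_injective hf ⟨t, ht⟩
    have hw' : u * (w : G) * u⁻¹ = t := congrArg Subtype.val hw
    rw [← hw']
    simp [mul_assoc]

theorem genX_normalizes {x : G} (hx : x ∈ genX Q g) (hcard : 32 ≤ Nat.card Q) {c : G}
    (hc : c ∈ Subgroup.centralizer (fourV z g : Set G)) :
    x * c * x⁻¹ ∈ Subgroup.centralizer (fourV z g : Set G) := by
  rw [Subgroup.mem_centralizer_iff]
  intro t ht
  have e := Subgroup.mem_centralizer_iff.mp hc _ (h.genX_perm (inv_mem hx) hcard t ht)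
  calc t * (x * c * x⁻¹) = x * (x⁻¹ * t * x⁻¹⁻¹ * c) * x⁻¹ := by group
    _ = x * (c * (x⁻¹ * t * x⁻¹⁻¹)) * x⁻¹ := by rw [e]
    _ = x * c * x⁻¹ * t := by group

/-- `[X, C(V)] ≤ R`, and `X` normalizes `R`. -/
theorem comm_centralizer_mem {x : G} (hx : x ∈ genX Q g) (hcard : 32 ≤ Nat.card Q) :
    (∀ c ∈ Subgroup.centralizer (fourV z g : Set G), x * c * x⁻¹ * c⁻¹ ∈ radR Q z g) ∧
      ∀ r ∈ radR Q z g, x * r * x⁻¹ ∈ radR Q z g := by
  have key : ∀ x ∈ genX Q g, ∀ c ∈ Subgroup.centralizer (fourV z g : Set G),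
      x * c * x⁻¹ * c⁻¹ ∈ radR Q z g := by
    intro x hx
    have hgen : ∀ y ∈ (Q : Set G) ∪ (Q.map (MulAut.conj g).toMonoidHom : Set G),
        ∀ c ∈ Subgroup.centralizer (fourV z g : Set G), y * c * y⁻¹ * c⁻¹ ∈ radR Q z g := by
      rintro y hy c hc
      have hyX : y ∈ genX Q g := hy.elim (fun h => Subgroup.mem_sup_left h) (fun h => Subgroup.mem_sup_right h)
      have hcent := mul_mem (h.genX_normalizes hyX hcard hc) (inv_mem hc)
      obtain ⟨hcz, hcs⟩ := h.mem_centralizer_fourV.mp hc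
      obtain ⟨h1, h2⟩ := h.mem_centralizer_fourV.mp hcent
      rcases hy with hy | hy
      · refine Subgroup.mem_sup_right (h.mem_sideA.mpr ⟨?_, h2⟩)
        have := mul_mem hy (h.Q_normal hcz (inv_mem hy))
        simpa [mul_assoc] using this
      · refine Subgroup.mem_sup_left (h.mem_sideB.mpr ⟨?_, h1⟩)
        have := mul_mem hy (h.W_normal hcs (inv_mem hy))
        simpa [mul_assoc] using this
    rw [genX, Subgroup.sup_eq_closure] at hx
    induction hx using Subgroup.closure_induction_left with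
    | one => intro c _; simp
    | mul_left y hy u hu ih =>
      intro c hc
      have huX : u ∈ genX Q g := by rw [genX, Subgroup.sup_eq_closure]; exact hu
      have := mul_mem (hgen y hy _ (h.genX_normalizes huX hcard hc)) (ih c hc)
      simpa [mul_assoc] using this
    | inv_mul_cancel y hy u hu ih =>
      intro c hc
      have huX : u ∈ genX Q g := by rw [genX, Subgroup.sup_eq_closure]; exact hu
      have hy' : y⁻¹ ∈ (Q : Set G) ∪ (Q.map (MulAut.conj g).toMonoidHom : Set G) :=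
        hy.imp (fun h => Q.inv_mem h) (fun h => (Q.map (MulAut.conj g).toMonoidHom).inv_mem h)
      have := mul_mem (hgen y⁻¹ hy' _ (h.genX_normalizes huX hcard hc)) (ih c hc)
      simpa [mul_assoc] using this
  refine ⟨key x hx, fun r hr => ?_⟩
  have := mul_mem (key x hx r (h.radR_le_centralizer hr)) hr
  simpa [mul_assoc] using this

theorem radR_le_genX : radR Q z g ≤ genX Q g :=
  sup_le (inf_le_left.trans le_sup_right) (inf_le_left.trans le_sup_left)

/-- `R = X ∩ C(V)`. -/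
theorem mem_radR_iff (hcard : 32 ≤ Nat.card Q) {x : G} :
    x ∈ radR Q z g ↔ x ∈ genX Q g ∧ x ∈ Subgroup.centralizer (fourV z g : Set G) := by
  refine ⟨fun hx => ⟨h.radR_le_genX hx, h.radR_le_centralizer hx⟩, fun ⟨hxX, hxC⟩ => ?_⟩
  obtain ⟨y, hy, hys⟩ := h.exists_swap
  obtain ⟨u, hu, hus⟩ := h.exists_swap' hcard
  have hzW := h.z_mem_W hcard
  have hyX : y ∈ genX Q g := Subgroup.mem_sup_left hy
  have huX : u ∈ genX Q g := Subgroup.mem_sup_right hu
  -- the six cosets
  let S : Set G := {w | ∃ r ∈ radR Q z g, ∃ e ∈ [1, y, u, y * u, u * y, y * u * y], w = r * e}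
  have hy2 : y * y ∈ radR Q z g := by
    refine Subgroup.mem_sup_right (h.mem_sideA.mpr ?_)
    rcases h.sq_cases hy with e | e <;> rw [e]
    exacts [⟨one_mem _, by simp⟩, ⟨h.z_mem, h.s_comm.symm⟩]
  have hu2 : u * u ∈ radR Q z g := by
    refine Subgroup.mem_sup_left (h.mem_sideB.mpr ?_)
    rcases h.W_sq_cases hu with e | e <;> rw [e]
    exacts [⟨one_mem _, by simp⟩, ⟨h.s_mem_W, h.s_comm⟩]
  -- Q = A ∪ A y, W = B ∪ B u
  have hQcases : ∀ q ∈ Q, q ∈ radR Q z g ∨ ∃ r ∈ radR Q z g, q = r * y := by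
    intro q hq
    rcases h.conj_cases hq h.conj_mem with e | e
    · exact Or.inl (Subgroup.mem_sup_right (h.mem_sideA.mpr ⟨hq, mul_inv_eq_iff_eq_mul.mp e⟩))
    · refine Or.inr ⟨q * y⁻¹, Subgroup.mem_sup_right (h.mem_sideA.mpr ⟨mul_mem hq (inv_mem hy), ?_⟩), by group⟩
      refine mul_inv_eq_iff_eq_mul.mp ?_
      have e2 : y⁻¹ * (g * z * g⁻¹) * y = z * (g * z * g⁻¹) := by
        rcases h.conj_cases (inv_mem hy) h.conj_mem with e' | e' <;> rw [inv_inv] at e'
        · exfalso
          refine h.s_ne_zs ?_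
          rw [← hys]
          calc g * z * g⁻¹ = y * (y⁻¹ * (g * z * g⁻¹) * y) * y⁻¹ := by group
            _ = y * (g * z * g⁻¹) * y⁻¹ := by rw [e']
        · exact e'
      calc q * y⁻¹ * (g * z * g⁻¹) * (q * y⁻¹)⁻¹ = q * (y⁻¹ * (g * z * g⁻¹) * y) * q⁻¹ := by group
        _ = (q * z) * (g * z * g⁻¹) * q⁻¹ := by rw [e2]; group
        _ = z * (q * (g * z * g⁻¹) * q⁻¹) := by rw [h.comm_z hq]; group
        _ = g * z * g⁻¹ := by rw [e, ← mul_assoc, h.sq_one, one_mul]
  have hWcases : ∀ q ∈ Q.map (MulAut.conj g).toMonoidHom, q ∈ radR Q z g ∨ ∃ r ∈ radR Q z g, q = r * u := by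
    intro q hq
    rcases h.W_conj_cases hq hzW with e | e
    · exact Or.inl (Subgroup.mem_sup_left (h.mem_sideB.mpr ⟨hq, mul_inv_eq_iff_eq_mul.mp e⟩))
    · refine Or.inr ⟨q * u⁻¹, Subgroup.mem_sup_left (h.mem_sideB.mpr ⟨mul_mem hq (inv_mem hu), ?_⟩), by group⟩
      refine mul_inv_eq_iff_eq_mul.mp ?_
      have e2 : u⁻¹ * z * u = g * z * g⁻¹ * z := by
        rcases h.W_conj_cases (inv_mem hu) hzW with e' | e' <;> rw [inv_inv] at e'
        · exfalso
          refine h.z_ne_zs ?_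
          rw [← h.s_comm, ← hus]
          calc z = u * (u⁻¹ * z * u) * u⁻¹ := by group
            _ = u * z * u⁻¹ := by rw [e']
        · exact e'
      calc q * u⁻¹ * z * (q * u⁻¹)⁻¹ = q * (u⁻¹ * z * u) * q⁻¹ := by group
        _ = (q * (g * z * g⁻¹)) * z * q⁻¹ := by rw [e2]; group
        _ = g * z * g⁻¹ * (q * z * q⁻¹) := by rw [h.W_comm_s hq]; group
        _ = z := by rw [e, ← mul_assoc, h.s_sq, one_mul]
  -- the braid relation modulo `R`
  have hbraid : ∃ r ∈ radR Q z g, u * y * u = r * (y * u * y) := by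
    have k1 : (y * u) * z * (y * u)⁻¹ = g * z * g⁻¹ := by
      calc (y * u) * z * (y * u)⁻¹ = y * (u * z * u⁻¹) * y⁻¹ := by group
        _ = (y * (g * z * g⁻¹) * y⁻¹) * (y * z * y⁻¹) := by rw [hus]; group
        _ = g * z * g⁻¹ := by
            rw [hys, mul_inv_eq_iff_eq_mul.mpr (h.comm_z hy), mul_assoc, h.s_comm, ← mul_assoc, h.sq_one, one_mul]
    -- `k y k⁻¹` lies in `W`
    set k := y * u
    have hkW : k * y * k⁻¹ ∈ Q.map (MulAut.conj g).toMonoidHom := by
      rw [h.mem_W]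
      have hc : g⁻¹ * k ∈ Subgroup.centralizer ({z} : Set G) := by
        rw [Subgroup.mem_centralizer_singleton_iff]
        calc g⁻¹ * k * z = g⁻¹ * (k * z * k⁻¹) * k := by group
          _ = z * (g⁻¹ * k) := by rw [k1]; group
      have := (Subgroup.mem_normalizer_iff.mp (h.cent_le hc) y).mp hy
      simpa [mul_assoc] using this
    obtain ⟨r, hr, e⟩ : ∃ r ∈ radR Q z g, k * y * k⁻¹ = r * u := by
      refine (hWcases _ hkW).resolve_left fun hin => ?_
      have hc := h.radR_le_centralizer hin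
      have hconj := h.genX_normalizes (x := k⁻¹) (inv_mem (mul_mem hyX huX)) hcard hc
      have hyc : y ∈ Subgroup.centralizer (fourV z g : Set G) := by simpa [mul_assoc] using hconj
      obtain ⟨-, hys'⟩ := h.mem_centralizer_fourV.mp hyc
      exact h.s_ne_zs (by rw [← hys, mul_inv_eq_iff_eq_mul.mpr hys'])
    refine ⟨r⁻¹, inv_mem hr, ?_⟩
    have e' : y * u * y = r * u * (y * u) := by
      rw [← e]
      simp only [k]
      group
    rw [e']
    group
  have hmove : ∀ e r, e ∈ genX Q g → r ∈ radR Q z g → ∃ r' ∈ radR Q z g, e * r = r' * e := by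
    intro e r he hr
    exact ⟨e * r * e⁻¹, (h.comm_centralizer_mem he hcard).2 r hr, by group⟩
  have hrep : ∀ e ∈ [1, y, u, y * u, u * y, y * u * y], e ∈ genX Q g := by
    intro e he
    simp only [List.mem_cons, List.not_mem_nil, or_false] at he
    rcases he with rfl | rfl | rfl | rfl | rfl | rfl
    exacts [one_mem _, hyX, huX, mul_mem hyX huX, mul_mem huX hyX, mul_mem (mul_mem hyX huX) hyX]
  have hS : ∀ w ∈ S, ∀ v, (v = y ∨ v = u ∨ v ∈ radR Q z g) → w * v ∈ S := by
    rintro w ⟨r, hr, e, he, rfl⟩ v hv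
    rcases hv with hv | hv | hv
    rotate_left 2
    · obtain ⟨r', hr', hee⟩ := hmove e v (hrep e he) hv
      exact ⟨r * r', mul_mem hr hr', e, he, by rw [mul_assoc, hee, ← mul_assoc]⟩
    all_goals subst v
    all_goals
      simp only [List.mem_cons, List.not_mem_nil, or_false] at he
    · suffices hkey : ∃ r' ∈ radR Q z g, ∃ e' ∈ [1, y, u, y * u, u * y, y * u * y], e * y = r' * e' by
        obtain ⟨r', hr', e', he', hee⟩ := hkey
        exact ⟨r * r', mul_mem hr hr', e', he', by rw [mul_assoc, hee, ← mul_assoc]⟩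
      rcases he with he | he | he | he | he | he <;> rw [he]
      · exact ⟨1, one_mem _, y, by simp, by simp⟩
      · exact ⟨y * y, hy2, 1, by simp, by simp⟩
      · exact ⟨1, one_mem _, u * y, by simp, by simp⟩
      · exact ⟨1, one_mem _, y * u * y, by simp, by simp⟩
      · obtain ⟨r', hr', hee⟩ := hmove u _ huX hy2
        exact ⟨r', hr', u, by simp, by rw [mul_assoc, hee]⟩
      · obtain ⟨r', hr', hee⟩ := hmove (y * u) _ (mul_mem hyX huX) hy2
        exact ⟨r', hr', y * u, by simp, by rw [mul_assoc (y * u), hee]⟩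
    · suffices hkey : ∃ r' ∈ radR Q z g, ∃ e' ∈ [1, y, u, y * u, u * y, y * u * y], e * u = r' * e' by
        obtain ⟨r', hr', e', he', hee⟩ := hkey
        exact ⟨r * r', mul_mem hr hr', e', he', by rw [mul_assoc, hee, ← mul_assoc]⟩
      rcases he with he | he | he | he | he | he <;> rw [he]
      · exact ⟨1, one_mem _, u, by simp, by simp⟩
      · exact ⟨1, one_mem _, y * u, by simp, by simp⟩
      · exact ⟨u * u, hu2, 1, by simp, by simp⟩
      · obtain ⟨r', hr', hee⟩ := hmove y _ hyX hu2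
        exact ⟨r', hr', y, by simp, by rw [mul_assoc, hee]⟩
      · obtain ⟨r', hr', hee⟩ := hbraid
        exact ⟨r', hr', y * u * y, by simp, hee⟩
      · obtain ⟨r', hr', hee⟩ := hbraid
        obtain ⟨r'', hr'', hee''⟩ := hmove y r' hyX hr'
        refine ⟨r'' * (y * y), mul_mem hr'' hy2, u * y, by simp, ?_⟩
        calc y * u * y * u = y * (u * y * u) := by group
          _ = (y * r') * (y * u * y) := by rw [hee]; group
          _ = r'' * (y * y) * (u * y) := by rw [hee'']; group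
  have hgenS : ∀ q ∈ (Q : Set G) ∪ (Q.map (MulAut.conj g).toMonoidHom : Set G), ∀ w ∈ S, w * q ∈ S := by
    rintro q hq w hw
    have hc : q ∈ radR Q z g ∨ ∃ r ∈ radR Q z g, ∃ v, (v = y ∨ v = u) ∧ q = r * v := by
      rcases hq with hq | hq
      · rcases hQcases q hq with hr | ⟨r, hr, rfl⟩
        exacts [Or.inl hr, Or.inr ⟨r, hr, y, Or.inl rfl, rfl⟩]
      · rcases hWcases q hq with hr | ⟨r, hr, rfl⟩
        exacts [Or.inl hr, Or.inr ⟨r, hr, u, Or.inr rfl, rfl⟩]
    rcases hc with hr | ⟨r, hr, v, hv, rfl⟩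
    · exact hS w hw q (Or.inr (Or.inr hr))
    · rw [← mul_assoc]
      exact hS _ (hS w hw r (Or.inr (Or.inr hr))) v (hv.imp_right Or.inl)
  have hallS : ∀ w ∈ genX Q g, w ∈ S := by
    intro w hw
    rw [genX, Subgroup.sup_eq_closure] at hw
    induction hw using Subgroup.closure_induction_right with
    | one => exact ⟨1, one_mem _, 1, by simp, by simp⟩
    | mul_right u _ v hv ih => exact hgenS v hv u ih
    | mul_inv_cancel u _ v hv ih =>
      exact hgenS v⁻¹ (hv.imp (fun h => Q.inv_mem h) (fun h => (Q.map (MulAut.conj g).toMonoidHom).inv_mem h)) u ih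
  obtain ⟨r, hr, e, he, rfl⟩ := hallS x hxX
  have hec : e ∈ Subgroup.centralizer (fourV z g : Set G) := by
    have := mul_mem (inv_mem (h.radR_le_centralizer hr)) hxC
    simpa using this
  obtain ⟨hez, hes⟩ := h.mem_centralizer_fourV.mp hec
  have c1 : ∀ (c t1 t2 : G), c * (t1 * t2) * c⁻¹ = (c * t1 * c⁻¹) * (c * t2 * c⁻¹) := fun c t1 t2 => by group
  have c2 : ∀ (c d t : G), (c * d) * t * (c * d)⁻¹ = c * (d * t * d⁻¹) * c⁻¹ := fun c d t => by group
  have hyz : y * z * y⁻¹ = z := mul_inv_eq_iff_eq_mul.mpr (h.comm_z hy)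
  have hus' : u * (g * z * g⁻¹) * u⁻¹ = g * z * g⁻¹ := mul_inv_eq_iff_eq_mul.mpr (h.W_comm_s hu)
  have huz : u * z * u⁻¹ = z * (g * z * g⁻¹) := hus.trans h.s_comm
  have hzs_y : y * (z * (g * z * g⁻¹)) * y⁻¹ = g * z * g⁻¹ := by
    rw [c1, hyz, hys, ← mul_assoc, h.sq_one, one_mul]
  have hzs_u : u * (z * (g * z * g⁻¹)) * u⁻¹ = z := by rw [c1, huz, hus', mul_assoc, h.s_sq, mul_one]
  have fz : e * z * e⁻¹ = z := mul_inv_eq_iff_eq_mul.mpr hez
  have fs : e * (g * z * g⁻¹) * e⁻¹ = g * z * g⁻¹ := mul_inv_eq_iff_eq_mul.mpr hes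
  simp only [List.mem_cons, List.not_mem_nil, or_false] at he
  rcases he with rfl | rfl | rfl | rfl | rfl | rfl
  · simpa using hr
  · rw [hys] at fs; exact absurd fs.symm h.s_ne_zs
  · rw [huz] at fz; exact absurd fz.symm h.z_ne_zs
  · rw [c2, huz, hzs_y] at fz; exact absurd fz h.conj_ne
  · rw [c2, hyz, huz] at fz; exact absurd fz.symm h.z_ne_zs
  · rw [c2, hyz, c2, huz, hzs_y] at fz; exact absurd fz h.conj_ne

end PairAt

end CfsgLib.LargeExtra
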