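import Mathlib
import Cfsg.Prelude.Def_MonsterType
import Cfsg.Agent.Lib.LargeExtra.Pair
import Cfsg.Agent.Lib.Coprime.Commutator
import Cfsg.Agent.Lib.Components.FStar

/-! Odd order automorphisms of extraspecial 2-groups, and a few general reductions. -/

set_option autoImplicit false

namespace CfsgLib.LargeExtra

open Cfsg
open scoped commutatorElement

variable {G : Type*} [Group G] [Finite G] {Q : Subgroup G} {z : G}

/-- A non-abelian subgroup of `Q` whose centre is `⟨z⟩` is extraspecial. -/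
theorem ExtraAt.sub (h : ExtraAt Q z) {H : Subgroup G} (hH : H ≤ Q)
    (hcen : ∀ x ∈ H, (∀ y ∈ H, y * x = x * y) → x = 1 ∨ x = z)
    (hna : ∃ a ∈ H, ∃ b ∈ H, a * b ≠ b * a) : ExtraAt H z := by
  haveI : Fact (Nat.Prime 2) := ⟨Nat.prime_two⟩
  obtain ⟨a, ha, b, hb, hab⟩ := hna
  have hzH : z ∈ H := by
    rcases h.conj_cases (hH ha) (hH hb) with e | e
    · exact absurd (mul_inv_eq_iff_eq_mul.mp e) hab
    · have := mul_mem (mul_mem (mul_mem ha hb) (inv_mem ha)) (inv_mem hb)
      rwa [e, mul_inv_cancel_right] at this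
  have hzc : (⟨z, hzH⟩ : H) ∈ Subgroup.center H :=
    Subgroup.mem_center_iff.mpr fun y => Subtype.ext (h.comm_z (hH y.2))
  have hcz : (Subgroup.center ↥H).map H.subtype = Subgroup.zpowers z := by
    refine le_antisymm ?_ (Subgroup.zpowers_le.mpr ⟨_, hzc, rfl⟩)
    rintro _ ⟨c, hc, rfl⟩
    rw [h.mem_zpowers_z]
    exact hcen c c.2 fun y hy => congrArg Subtype.val (Subgroup.mem_center_iff.mp hc ⟨y, hy⟩)
  have hc2 : Nat.card (Subgroup.center ↥H) = 2 := by
    rw [← Subgroup.card_map_of_injective H.subtype_injective, hcz, Nat.card_zpowers, h.order_z]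
  have hp : IsPGroup 2 H := h.extra.1.1.to_le hH
  have mem_center : ∀ x : H, ((x : G) = 1 ∨ (x : G) = z) → x ∈ Subgroup.center H := by
    rintro x (e | e)
    · rw [show x = 1 from Subtype.ext e]; exact one_mem _
    · rw [show x = ⟨z, hzH⟩ from Subtype.ext e]; exact hzc
  have hcomm : commutator H ≤ Subgroup.center H := by
    rw [commutator_def, Subgroup.commutator_le]
    rintro x - y -
    refine mem_center _ ?_
    show (x : G) * y * (x : G)⁻¹ * (y : G)⁻¹ = 1 ∨ (x : G) * y * (x : G)⁻¹ * (y : G)⁻¹ = z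
    rcases h.conj_cases (hH x.2) (hH y.2) with e | e <;> rw [e]
    · exact Or.inl (mul_inv_cancel _)
    · exact Or.inr (mul_inv_cancel_right _ _)
  have hzcomm : Subgroup.center H ≤ commutator H := by
    have hm : (⟨a, ha⟩ : H) * ⟨b, hb⟩ * (⟨a, ha⟩ : H)⁻¹ * (⟨b, hb⟩ : H)⁻¹ ∈ commutator H := by
      rw [commutator_def]
      exact Subgroup.commutator_mem_commutator (Subgroup.mem_top _) (Subgroup.mem_top _)
    intro c hc
    have hcc : (c : G) ∈ Subgroup.zpowers z := hcz ▸ Subgroup.mem_map_of_mem H.subtype hc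
    rcases h.mem_zpowers_z.mp hcc with e | e
    · rw [show c = 1 from Subtype.ext e]; exact one_mem _
    · convert hm
      refine Subtype.ext ?_
      show (c : G) = a * b * a⁻¹ * b⁻¹
      rcases h.conj_cases (hH ha) (hH hb) with e' | e'
      · exact absurd (mul_inv_eq_iff_eq_mul.mp e') hab
      · rw [e, e', mul_inv_cancel_right]
  refine ⟨⟨⟨hp, le_antisymm ?_ ?_, le_antisymm hcomm hzcomm⟩, hc2⟩, h.order_z, hcz⟩
  · refine CfsgLib.PGroup.frattini_le_of (p := 2) _ hcomm fun x => mem_center _ ?_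
    rw [Subgroup.coe_pow, sq]
    exact h.sq_cases (hH x.2)
  · exact hzcomm.trans (CfsgLib.PGroup.commutator_le_frattini hp)

section OddAction

variable {A : Subgroup G} (h : ExtraAt Q z) (hA : A ≤ Subgroup.normalizer (Q : Set G))
  (hodd : Odd (Nat.card A))
include h hA

theorem odd_fixes_z {a : G} (ha : a ∈ A) : a * z * a⁻¹ = z := by
  have hmem : ∀ q ∈ Q, a * q * a⁻¹ ∈ Q := fun q hq => (Subgroup.mem_normalizer_iff.mp (hA ha) q).mp hq
  have hcomm : ∀ q ∈ Q, q * (a * z * a⁻¹) = a * z * a⁻¹ * q := by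
    intro q hq
    have hq' : a⁻¹ * q * a ∈ Q := by
      simpa using (Subgroup.mem_normalizer_iff.mp (inv_mem (hA ha)) q).mp hq
    have e := h.comm_z hq'
    calc q * (a * z * a⁻¹) = a * (a⁻¹ * q * a * z) * a⁻¹ := by group
      _ = a * (z * (a⁻¹ * q * a)) * a⁻¹ := by rw [e]
      _ = a * z * a⁻¹ * q := by group
  rcases h.central_cases (hmem z h.z_mem) hcomm with e | e
  · exact absurd (conj_eq_one_iff.mp e) h.ne_one
  · exact e

include hodd

theorem inf_centralizer_sup_commutator :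
    (Q ⊓ Subgroup.centralizer (A : Set G)) ⊔ ⁅Q, A⁆ = Q := by
  haveI : Fact (Nat.Prime 2) := ⟨Nat.prime_two⟩
  obtain ⟨n, hn⟩ := IsPGroup.iff_card.mp h.extra.1.1
  haveI := h.extra.1.1.isNilpotent
  rw [sup_comm]
  exact CfsgLib.Coprime.commutator_sup_centralizer A Q hA
    (by rw [hn]; exact Nat.Coprime.pow_right _ (Nat.coprime_two_right.mpr hodd)) (Or.inr inferInstance)

omit hodd

theorem commute_commutator {c x : G} (hc : c ∈ Q ⊓ Subgroup.centralizer (A : Set G)) (hx : x ∈ ⁅Q, A⁆) :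
    c * x = x * c := by
  rw [Subgroup.commutator_def] at hx
  induction hx using Subgroup.closure_induction with
  | mem x hx =>
    obtain ⟨q, hq, a, ha, rfl⟩ := hx
    have hca : a * c * a⁻¹ = c := CfsgLib.Coprime.conj_eq_of_mem_centralizer hc.2 ha
    have haq : a * q⁻¹ * a⁻¹ ∈ Q := (Subgroup.mem_normalizer_iff.mp (hA ha) _).mp (inv_mem hq)
    rcases h.conj_cases hc.1 hq with e | e
    · have e2 : c * (a * q⁻¹ * a⁻¹) * c⁻¹ = a * q⁻¹ * a⁻¹ := by
        calc c * (a * q⁻¹ * a⁻¹) * c⁻¹ = (a * c * a⁻¹) * (a * q⁻¹ * a⁻¹) * (a * c * a⁻¹)⁻¹ := by rw [hca]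
          _ = a * (c * q * c⁻¹)⁻¹ * a⁻¹ := by group
          _ = a * q⁻¹ * a⁻¹ := by rw [e]
      refine mul_inv_eq_iff_eq_mul.mp ?_
      rw [commutatorElement_def]
      calc c * (q * a * q⁻¹ * a⁻¹) * c⁻¹ = (c * q * c⁻¹) * (c * (a * q⁻¹ * a⁻¹) * c⁻¹) := by group
        _ = q * a * q⁻¹ * a⁻¹ := by rw [e, e2]; group
    · have e2 : c * (a * q⁻¹ * a⁻¹) * c⁻¹ = a * q⁻¹ * a⁻¹ * z := by
        calc c * (a * q⁻¹ * a⁻¹) * c⁻¹ = (a * c * a⁻¹) * (a * q⁻¹ * a⁻¹) * (a * c * a⁻¹)⁻¹ := by rw [hca]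
          _ = a * (c * q * c⁻¹)⁻¹ * a⁻¹ := by group
          _ = a * q⁻¹ * a⁻¹ * (a * z * a⁻¹) := by rw [e, mul_inv_rev, h.inv_eq]; group
          _ = a * q⁻¹ * a⁻¹ * z := by rw [odd_fixes_z h hA ha]
      refine mul_inv_eq_iff_eq_mul.mp ?_
      rw [commutatorElement_def]
      calc c * (q * a * q⁻¹ * a⁻¹) * c⁻¹ = (c * q * c⁻¹) * (c * (a * q⁻¹ * a⁻¹) * c⁻¹) := by group
        _ = z * (q * (a * q⁻¹ * a⁻¹) * z) := by rw [e, e2]; group
        _ = z * (z * (q * (a * q⁻¹ * a⁻¹))) := by rw [h.comm_z (mul_mem hq haq)]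
        _ = q * a * q⁻¹ * a⁻¹ := by rw [← mul_assoc z z, h.sq_one, one_mul]; group
  | one => simp
  | mul u v _ _ hu hv => rw [← mul_assoc, hu, mul_assoc, hv, mul_assoc]
  | inv u _ hu => exact ((show Commute c u from hu).inv_right).eq

include hodd

/-- The centre of `C_Q(A)` is `⟨z⟩`. -/
theorem inf_centralizer_center {x : G} (hx : x ∈ Q ⊓ Subgroup.centralizer (A : Set G))
    (hc : ∀ y ∈ Q ⊓ Subgroup.centralizer (A : Set G), y * x = x * y) : x = 1 ∨ x = z := by
  refine h.central_cases hx.1 fun q hq => ?_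
  rw [← inf_centralizer_sup_commutator h hA hodd, Subgroup.sup_eq_closure] at hq
  induction hq using Subgroup.closure_induction with
  | mem y hy =>
    rcases hy with hy | hy
    · exact hc y hy
    · exact (commute_commutator h hA hx hy).symm
  | one => simp
  | mul u v _ _ hu hv => rw [mul_assoc, hv, ← mul_assoc, hu, mul_assoc]
  | inv u _ hu => exact ((show Commute u x from hu).inv_left).eq

/-- A non-central element of `C_Q(A)` is moved by an element of `C_Q(A)`. -/
theorem exists_conj_eq_centralized {x : G} (hx : x ∈ Q ⊓ Subgroup.centralizer (A : Set G))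
    (h1 : x ≠ 1) (h2 : x ≠ z) :
    ∃ y ∈ Q ⊓ Subgroup.centralizer (A : Set G), y * x * y⁻¹ = z * x := by
  by_contra hne
  push Not at hne
  rcases inf_centralizer_center h hA hodd hx fun y hy => mul_inv_eq_iff_eq_mul.mp
    ((h.conj_cases hy.1 hx.1).resolve_right (hne y hy)) with e | e
  exacts [h1 e, h2 e]

theorem z_mem_inf_centralizer : z ∈ Q ⊓ Subgroup.centralizer (A : Set G) :=
  ⟨h.z_mem, Subgroup.mem_centralizer_iff.mpr fun a ha => mul_inv_eq_iff_eq_mul.mp (odd_fixes_z h hA ha)⟩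

/-- `C_Q(A)` is `⟨z⟩` or extraspecial with the same centre. -/
theorem inf_centralizer_cases : Q ⊓ Subgroup.centralizer (A : Set G) = (Subgroup.center ↥Q).map Q.subtype ∨
    ExtraAt (Q ⊓ Subgroup.centralizer (A : Set G)) z := by
  by_cases hab : ∃ a ∈ Q ⊓ Subgroup.centralizer (A : Set G), ∃ b ∈ Q ⊓ Subgroup.centralizer (A : Set G),
      a * b ≠ b * a
  · exact Or.inr (h.sub inf_le_left (fun x hx hc => inf_centralizer_center h hA hodd hx hc) hab)
  · push Not at hab
    left
    rw [h.centre]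
    refine le_antisymm (fun x hx => ?_) (Subgroup.zpowers_le.mpr (z_mem_inf_centralizer h hA hodd))
    exact h.mem_zpowers_z.mpr (inf_centralizer_center h hA hodd hx fun y hy => hab y hy x hx)

end OddAction

/-- Two involutions `z`, `s` without fixed points on an odd order subgroup, together with an element
conjugating `s` to `z * s`, force that subgroup to be trivial. -/
theorem odd_trivial_of_four {H : Type*} [Group H] [Finite H] {K : Subgroup H} (hK : Odd (Nat.card K))
    {z s y : H} (hz : z ∈ Subgroup.normalizer (K : Set H)) (hs : s ∈ Subgroup.normalizer (K : Set H))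
    (hy : y ∈ Subgroup.normalizer (K : Set H)) (hs2 : s * s = 1) (hys : y * s * y⁻¹ = z * s)
    (hfz : ∀ k ∈ K, z * k = k * z → k = 1) (hfs : ∀ k ∈ K, s * k = k * s → k = 1) : K = ⊥ := by
  have hinv : ∀ k ∈ K, s * k * s⁻¹ = k⁻¹ := fun k hk => inverts_of_fixed_point_free hK hs hs2 hfs hk
  rw [Subgroup.eq_bot_iff_forall]
  intro k hk
  refine hfz k hk ?_
  have hk' : y⁻¹ * k * y ∈ K := by
    simpa using (Subgroup.mem_normalizer_iff.mp (inv_mem hy) k).mp hk
  have hzs : (z * s) * k * (z * s)⁻¹ = k⁻¹ := by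
    rw [← hys]
    calc y * s * y⁻¹ * k * (y * s * y⁻¹)⁻¹ = y * (s * (y⁻¹ * k * y) * s⁻¹) * y⁻¹ := by group
      _ = y * (y⁻¹ * k * y)⁻¹ * y⁻¹ := by rw [hinv _ hk']
      _ = k⁻¹ := by group
  have := commute_mul_of_inverts hzs (hinv k hk)
  rwa [mul_assoc z, hs2, mul_one] at this

/-- Elementary consequences of `F*(C(z)) = Q` extraspecial. -/
theorem extraAt_of_fstar {z : G} (hz : orderOf z = 2) {Q : Subgroup G}
    (hQC : Q ≤ Subgroup.centralizer ({z} : Set G))
    (hF : (generalizedFittingSubgroup ↥(Subgroup.centralizer ({z} : Set G))).map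
      (Subgroup.centralizer ({z} : Set G)).subtype = Q) (hQ : IsExtraspecial 2 ↥Q) :
    ExtraAt Q z ∧ Subgroup.centralizer (Q : Set G) = (Subgroup.center ↥Q).map Q.subtype ∧
      Subgroup.centralizer ({z} : Set G) ≤ Subgroup.normalizer (Q : Set G) := by
  set C := Subgroup.centralizer ({z} : Set G) with hC
  set F := generalizedFittingSubgroup ↥C with hFdef
  have hzC : z ∈ C := Subgroup.mem_centralizer_singleton_iff.mpr rfl
  have hzF : (⟨z, hzC⟩ : C) ∈ F := by
    refine CfsgLib.Components.centralizer_generalizedFitting_le (Subgroup.mem_centralizer_iff.mpr fun x _ => ?_)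
    exact Subtype.ext (Subgroup.mem_centralizer_singleton_iff.mp x.2)
  have hzQ : z ∈ Q := hF ▸ Subgroup.mem_map_of_mem C.subtype hzF
  obtain ⟨z', hz'⟩ := ExtraAt.exists_of hQ
  have hzz' : z = z' := by
    rcases hz'.central_cases hzQ (fun q hq => Subgroup.mem_centralizer_singleton_iff.mp (hQC hq)) with e | e
    · simp [e] at hz
    · exact e
  subst hzz'
  have hle : C ≤ Subgroup.normalizer (Q : Set G) := by
    intro c hc
    rw [Subgroup.mem_normalizer_iff]
    intro x
    haveI : F.Normal := CfsgLib.Components.generalizedFitting_normal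
    constructor
    · intro hx
      rw [← hF] at hx ⊢
      obtain ⟨f, hf, rfl⟩ := hx
      exact ⟨⟨c, hc⟩ * f * (⟨c, hc⟩ : C)⁻¹, Subgroup.Normal.conj_mem ‹_› f hf _, rfl⟩
    · intro hx
      rw [← hF] at hx ⊢
      obtain ⟨f, hf, hfx⟩ := hx
      have hxC : x = c⁻¹ * (f : G) * c := by rw [show (f : G) = c * x * c⁻¹ from hfx]; group
      exact ⟨(⟨c, hc⟩ : C)⁻¹ * f * (⟨c, hc⟩ : C)⁻¹⁻¹, Subgroup.Normal.conj_mem ‹_› f hf _, by simpa using hxC.symm⟩
  refine ⟨hz', le_antisymm (fun x hx => ?_) ?_, hle⟩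
  · have hxC : x ∈ C := Subgroup.mem_centralizer_singleton_iff.mpr
      (Subgroup.mem_centralizer_iff.mp hx z hzQ).symm
    have hxF : (⟨x, hxC⟩ : C) ∈ F := by
      refine CfsgLib.Components.centralizer_generalizedFitting_le (Subgroup.mem_centralizer_iff.mpr fun q hq => ?_)
      exact Subtype.ext (Subgroup.mem_centralizer_iff.mp hx q (hF ▸ Subgroup.mem_map_of_mem C.subtype hq))
    have hxQ : x ∈ Q := hF ▸ Subgroup.mem_map_of_mem C.subtype hxF
    rw [hz'.centre, hz'.mem_zpowers_z]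
    exact hz'.central_cases hxQ fun q hq => Subgroup.mem_centralizer_iff.mp hx q hq
  · rw [hz'.centre, Subgroup.zpowers_le, Subgroup.mem_centralizer_iff]
    exact fun q hq => hz'.comm_z hq

end CfsgLib.LargeExtra
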