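import Mathlib
import Cfsg.Prelude.Def_Transfer
import Cfsg.Agent.Lib.PGroup.Extraspecial

/-! Extraspecial groups are preserved by isomorphism. -/

set_option autoImplicit false

namespace CfsgLib.LargeExtra

open Cfsg

universe u v

theorem isExtraspecial_of_equiv {p : ℕ} [Fact p.Prime] {P : Type u} {P' : Type v} [Group P] [Group P']
    [Finite P] (e : P ≃* P') (h : IsExtraspecial p P) : IsExtraspecial p P' := by
  haveI : Finite P' := Finite.of_equiv P e.toEquiv
  have hp : IsPGroup p P' := h.1.1.of_equiv e
  have hcen : (Subgroup.center P).map e.toMonoidHom = Subgroup.center P' := by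
    ext y
    constructor
    · rintro ⟨x, hx, rfl⟩
      rw [Subgroup.mem_center_iff]
      intro w
      obtain ⟨w, rfl⟩ := e.surjective w
      simp only [MulEquiv.coe_toMonoidHom, ← map_mul, Subgroup.mem_center_iff.mp hx w]
    · intro hy
      refine ⟨e.symm y, Subgroup.mem_center_iff.mpr fun w => e.injective ?_, by simp⟩
      simp only [map_mul, MulEquiv.apply_symm_apply, Subgroup.mem_center_iff.mp hy (e w)]
  have hcomm : commutator P' = Subgroup.center P' := by
    rw [← hcen, ← h.1.2.2, commutator_def, commutator_def, Subgroup.map_commutator,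
      Subgroup.map_top_of_surjective _ e.surjective]
  refine ⟨⟨hp, le_antisymm ?_ ?_, hcomm⟩, ?_⟩
  · refine CfsgLib.PGroup.frattini_le_of (p := p) _ hcomm.le fun y => ?_
    obtain ⟨x, rfl⟩ := e.surjective y
    rw [← hcen, ← map_pow]
    exact Subgroup.mem_map_of_mem _ (CfsgLib.PGroup.extraspecial_pow_mem_center h x)
  · exact hcomm.ge.trans (CfsgLib.PGroup.commutator_le_frattini hp)
  · rw [← hcen, Subgroup.card_map_of_injective e.injective, h.2]

end CfsgLib.LargeExtra
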