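import Cfsg.Agent.Lib.LargeExtra.Pair
import Cfsg.Agent.Lib.LargeExtra.Transport
import Cfsg.Agent.Lib.PCore.Basic

/-! Orthogonality of singular involutions: the family `x ↦ O_2(C(x))` around a large extraspecial
2-subgroup. -/

set_option autoImplicit false

namespace CfsgLib.Singular39

open CfsgLib.LargeExtra

variable {G : Type*} [Group G] [Finite G]

/-- `O_2(C(x))` as a subgroup of `G`. -/
abbrev qOf (x : G) : Subgroup G :=
  (Cfsg.pCore 2 ↥(Subgroup.centralizer ({x} : Set G))).map (Subgroup.centralizer ({x} : Set G)).subtype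

theorem qOf_le (x : G) : qOf x ≤ Subgroup.centralizer ({x} : Set G) := Subgroup.map_subtype_le _

theorem centralizer_le_normalizer_qOf (x : G) :
    Subgroup.centralizer ({x} : Set G) ≤ Subgroup.normalizer (qOf x : Set G) := by
  intro c hc
  refine Subgroup.mem_normalizer_fintype (S := (qOf x : Set G)) ?_
  rintro _ ⟨y, hy, rfl⟩
  exact ⟨⟨c, hc⟩ * y * ⟨c, hc⟩⁻¹, Subgroup.Normal.conj_mem inferInstance y hy ⟨c, hc⟩, rfl⟩

theorem isPGroup_qOf (x : G) : IsPGroup 2 ↥(qOf x) := by
  haveI : Fact (Nat.Prime 2) := ⟨Nat.prime_two⟩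
  exact (CfsgLib.PCore.pCore_isPGroup).map _

theorem self_mem_qOf {x : G} (hx : orderOf x = 2) : x ∈ qOf x := by
  haveI : Fact (Nat.Prime 2) := ⟨Nat.prime_two⟩
  let x' : ↥(Subgroup.centralizer ({x} : Set G)) := ⟨x, Subgroup.mem_centralizer_singleton_iff.mpr rfl⟩
  have hn : (Subgroup.zpowers x').Normal := ⟨fun a ha c => by
    obtain ⟨k, rfl⟩ := ha
    have h : Commute c x' := Subtype.ext (Subgroup.mem_centralizer_singleton_iff.mp c.2)
    show c * x' ^ k * c⁻¹ ∈ _
    rw [(h.zpow_right k).eq, mul_inv_cancel_right]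
    exact zpow_mem (Subgroup.mem_zpowers x') k⟩
  refine ⟨x', CfsgLib.PCore.le_pCore hn (IsPGroup.of_card (n := 1) ?_) (Subgroup.mem_zpowers x'), rfl⟩
  rw [Nat.card_zpowers, ← Subgroup.orderOf_coe, hx, pow_one]

theorem map_conj_centralizer (g x : G) :
    (Subgroup.centralizer ({x} : Set G)).map (MulAut.conj g).toMonoidHom
      = Subgroup.centralizer ({g * x * g⁻¹} : Set G) := by
  ext c
  simp only [Subgroup.mem_map, MulEquiv.coe_toMonoidHom, MulAut.conj_apply, Subgroup.mem_centralizer_singleton_iff]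
  constructor
  · rintro ⟨d, hd, rfl⟩
    calc g * d * g⁻¹ * (g * x * g⁻¹) = g * (d * x) * g⁻¹ := by group
      _ = g * x * g⁻¹ * (g * d * g⁻¹) := by rw [hd]; group
  · intro hc
    refine ⟨g⁻¹ * c * g, ?_, by group⟩
    calc g⁻¹ * c * g * x = g⁻¹ * (c * (g * x * g⁻¹)) * g := by group
      _ = x * (g⁻¹ * c * g) := by rw [hc]; group

theorem qOf_conj (g x : G) : qOf (g * x * g⁻¹) = (qOf x).map (MulAut.conj g).toMonoidHom := by
  haveI : Fact (Nat.Prime 2) := ⟨Nat.prime_two⟩
  let e : ↥(Subgroup.centralizer ({x} : Set G)) ≃* ↥(Subgroup.centralizer ({g * x * g⁻¹} : Set G)) :=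
    ((MulAut.conj g).subgroupMap _).trans (MulEquiv.subgroupCongr (map_conj_centralizer g x))
  rw [qOf, qOf, ← CfsgLib.PCore.map_pCore_equiv (p := 2) e, Subgroup.map_map, Subgroup.map_map]
  rfl

/-- The hypotheses of the setting, for the point `x`. -/
structure Point (x : G) : Prop extends ExtraAt (qOf x) x where
  selfCent : Subgroup.centralizer (qOf x : Set G) ≤ qOf x

theorem Point.of_base {z : G} (hz : orderOf z = 2) (hE : Cfsg.IsExtraspecial 2 ↥(qOf z))
    (hC : Subgroup.centralizer (qOf z : Set G) ≤ qOf z) : Point z := by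
  haveI : Fact (Nat.Prime 2) := ⟨Nat.prime_two⟩
  refine ⟨⟨hE, hz, ?_⟩, hC⟩
  refine (Subgroup.eq_of_le_of_card_ge (Subgroup.zpowers_le.mpr ?_) ?_).symm
  · refine ⟨⟨z, self_mem_qOf hz⟩, Subgroup.mem_center_iff.mpr fun q => Subtype.ext ?_, rfl⟩
    exact Subgroup.mem_centralizer_singleton_iff.mp (qOf_le z q.2)
  · rw [Subgroup.card_subtype, hE.2, Nat.card_zpowers, hz]

theorem Point.conj {x : G} (h : Point x) (g : G) : Point (g * x * g⁻¹) := by
  haveI : Fact (Nat.Prime 2) := ⟨Nat.prime_two⟩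
  refine Point.of_base ?_ ?_ ?_
  · rw [show g * x * g⁻¹ = MulAut.conj g x from rfl, MulEquiv.orderOf_eq, h.order_z]
  · rw [qOf_conj]
    exact isExtraspecial_of_equiv ((MulAut.conj g).subgroupMap _) h.extra
  · rw [qOf_conj]
    intro c hc
    refine ⟨g⁻¹ * c * g, h.selfCent (Subgroup.mem_centralizer_iff.mpr fun q hq => ?_), by simp [mul_assoc]⟩
    have hq' := Subgroup.mem_centralizer_iff.mp hc (g * q * g⁻¹) ⟨q, hq, by simp⟩
    calc q * (g⁻¹ * c * g) = g⁻¹ * (g * q * g⁻¹ * c) * g := by group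
      _ = g⁻¹ * c * g * q := by rw [hq']; group

theorem Point.centralizer_eq {x : G} (h : Point x) :
    Subgroup.centralizer (qOf x : Set G) = (Subgroup.center ↥(qOf x)).map (qOf x).subtype := by
  refine le_antisymm (fun c hc => ⟨⟨c, h.selfCent hc⟩, Subgroup.mem_center_iff.mpr fun q => Subtype.ext
    (Subgroup.mem_centralizer_iff.mp hc q q.2), rfl⟩) ?_
  rintro _ ⟨c, hc, rfl⟩
  exact Subgroup.mem_centralizer_iff.mpr fun q hq => congrArg Subtype.val (Subgroup.mem_center_iff.mp hc ⟨q, hq⟩)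

/-- When the extraspecial group has order eight and a non-central conjugate of `x`, `C(x)` is a 2-group. -/
theorem Point.centralizer_isPGroup {x s : G} (h : Point x) (h8 : Nat.card ↥(qOf x) = 8) (hs : s ∈ qOf x)
    (hs2 : s * s = 1) (hsx : s ≠ x) (hs1 : s ≠ 1) : IsPGroup 2 ↥(Subgroup.centralizer ({x} : Set G)) := by
  classical
  haveI : Fact (Nat.Prime 2) := ⟨Nat.prime_two⟩
  by_contra hnp
  obtain ⟨p, hp, hpdvd, hp2⟩ : ∃ p, p.Prime ∧ p ∣ Nat.card ↥(Subgroup.centralizer ({x} : Set G)) ∧ p ≠ 2 := by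
    by_contra hall
    push Not at hall
    refine hnp (IsPGroup.of_card (n := (Nat.card ↥(Subgroup.centralizer ({x} : Set G))).primeFactorsList.length) ?_)
    exact Nat.eq_prime_pow_of_unique_prime_dvd Nat.card_pos.ne' fun {d} hd hdvd => hall d hd hdvd
  haveI := Fact.mk hp
  obtain ⟨⟨c, hc⟩, hcp⟩ := exists_prime_orderOf_dvd_card' p hpdvd
  rw [← Subgroup.orderOf_coe] at hcp
  replace hcp : orderOf c = p := hcp
  have hodd : Odd (orderOf c) := hcp ▸ hp.odd_of_ne_two hp2
  have hcn : ∀ a ∈ qOf x, c * a * c⁻¹ ∈ qOf x := fun a ha =>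
    (Subgroup.mem_normalizer_iff.mp (centralizer_le_normalizer_qOf x hc) a).mp ha
  -- an odd order element fixes what an even power of it fixes
  have hpow : ∀ a : G, ∀ k : ℕ, Commute (c ^ 2 ^ k) a → Commute c a := by
    intro a k hk
    obtain ⟨m, hm⟩ := exists_pow_eq_self_of_coprime (x := c) (n := 2 ^ k)
      ((Nat.coprime_two_left.mpr hodd).pow_left k)
    rw [← hm]
    exact hk.pow_left m
  have hcx : c * x * c⁻¹ = x := mul_inv_eq_iff_eq_mul.mpr (Subgroup.mem_centralizer_singleton_iff.mp hc)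
  obtain ⟨u, hu, hu2⟩ : ∃ u ∈ qOf x, u * u = x := by
    by_contra hall
    push Not at hall
    refine CfsgLib.PGroup.extraspecial_not_isMulCommutative h.extra ⟨⟨fun a b => Subtype.ext ?_⟩⟩
    have hinv : ∀ a ∈ qOf x, a⁻¹ = a := fun a ha =>
      inv_eq_of_mul_eq_one_right ((h.sq_cases ha).resolve_right (hall a ha))
    show (a : G) * b = b * a
    calc (a : G) * b = ((a : G) * b)⁻¹ := (hinv _ (mul_mem a.2 b.2)).symm
      _ = b * a := by rw [mul_inv_rev, hinv _ a.2, hinv _ b.2]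
  have hu4 : orderOf u = 4 := orderOf_eq_prime_pow (p := 2) (n := 1)
    (by rw [pow_one, pow_two, hu2]; exact h.ne_one)
    (by rw [show (2 : ℕ) ^ (1 + 1) = 2 + 2 from rfl, pow_add, pow_two, hu2, h.sq_one])
  have hsu : s ∉ Subgroup.zpowers u := by
    intro hsu
    rw [mem_zpowers_iff_mem_range_orderOf, hu4, Finset.mem_image] at hsu
    obtain ⟨k, hk, hks⟩ := hsu
    rw [Finset.mem_range] at hk
    interval_cases k
    · exact hs1 (by rw [← hks, pow_zero])
    · rw [pow_one] at hks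
      exact h.ne_one (by rw [← hu2, hks, hs2])
    · exact hsx (by rw [← hks, pow_two, hu2])
    · rw [← hks, show u ^ 3 * u ^ 3 = (u * u) * (u * u) * (u * u) by simp only [pow_succ, pow_zero, one_mul, mul_assoc], hu2, h.sq_one, one_mul] at hs2
      exact h.ne_one hs2
  -- the order eight group is `⟨u⟩ ∪ ⟨u⟩ s`
  have hcover : ∀ a ∈ qOf x, a ∈ Subgroup.zpowers u ∨ ∃ k : ℕ, a = u ^ k * s := by
    have hle : Subgroup.zpowers u ≤ qOf x := Subgroup.zpowers_le.mpr hu
    have hidx : ((Subgroup.zpowers u).subgroupOf (qOf x)).index = 2 := by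
      have h1 := ((Subgroup.zpowers u).subgroupOf (qOf x)).card_mul_index
      rw [Nat.card_congr (Subgroup.subgroupOfEquivOfLe hle).toEquiv, Nat.card_zpowers, hu4, h8] at h1
      omega
    intro a ha
    by_cases hau : a ∈ Subgroup.zpowers u
    · exact Or.inl hau
    right
    have h1 : (⟨a, ha⟩ : ↥(qOf x)) * ⟨s, hs⟩ ∈ (Subgroup.zpowers u).subgroupOf (qOf x) :=
      (Subgroup.mul_mem_iff_of_index_two hidx).mpr (iff_of_false hau hsu)
    have h2 : a * s ∈ Subgroup.zpowers u := h1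
    rw [mem_zpowers_iff_mem_range_orderOf, Finset.mem_image] at h2
    obtain ⟨k, -, hk⟩ := h2
    exact ⟨k, by rw [hk, mul_assoc, hs2, mul_one]⟩
  have hus : ∀ a ∈ qOf x, a * a = x → a = u ∨ a = x * u ∨ ∃ k : ℕ, a = u ^ k * s := by
    intro a ha hax
    rcases hcover a ha with hau | hau
    · rw [mem_zpowers_iff_mem_range_orderOf, hu4, Finset.mem_image] at hau
      obtain ⟨k, hk, rfl⟩ := hau
      rw [Finset.mem_range] at hk
      interval_cases k
      · exact absurd (by simpa using hax.symm) h.ne_one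
      · exact Or.inl (pow_one u)
      · refine absurd ?_ h.ne_one
        rw [pow_two, hu2] at hax
        rw [← hax]; exact h.sq_one
      · exact Or.inr (Or.inl (by rw [pow_succ, pow_two, hu2]))
    · exact Or.inr (Or.inr hau)
  -- conjugation by `c` fixes `u`
  have hcu : Commute c u := by
    have hc2 : ∀ a ∈ qOf x, a * a = x → a = u ∨ a = x * u := by
      intro a ha hax
      rcases hus a ha hax with e | e | ⟨k, rfl⟩
      · exact Or.inl e
      · exact Or.inr e
      · exfalso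
        have hks : s * u ^ k * s⁻¹ = u ^ k ∨ s * u ^ k * s⁻¹ = x * u ^ k := h.conj_cases hs (pow_mem hu k)
        have hsi : s⁻¹ = s := inv_eq_of_mul_eq_one_right hs2
        have hxk : u ^ k * u ^ k = 1 ∨ u ^ k * u ^ k = x := h.sq_cases (pow_mem hu k)
        -- `s` inverts `u`
        have hsu' : s * u * s⁻¹ = x * u := by
          refine (h.conj_cases hs hu).resolve_left fun e => ?_
          have hcm : ∀ b ∈ qOf x, Commute b s := fun b hb => by
            rcases hcover b hb with hb' | ⟨j, rfl⟩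
            · obtain ⟨j, rfl⟩ := hb'
              exact ((show Commute u s from (mul_inv_eq_iff_eq_mul.mp e).symm).zpow_left j)
            · exact ((show Commute u s from (mul_inv_eq_iff_eq_mul.mp e).symm).pow_left j).mul_left (Commute.refl s)
          rcases h.central_cases hs fun b hb => (hcm b hb).eq with e' | e'
          exacts [hs1 e', hsx e']
        have hinv : s * u * s⁻¹ = u⁻¹ := by
          rw [hsu']
          refine eq_inv_of_mul_eq_one_left ?_
          rw [mul_assoc, hu2, h.sq_one]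
        have : (u ^ k * s) * (u ^ k * s) = 1 := by
          calc (u ^ k * s) * (u ^ k * s) = u ^ k * (s * u ^ k * s⁻¹) * (s * s) := by group
            _ = 1 := by rw [← conj_pow, hinv, hs2, inv_pow, mul_one, mul_inv_cancel]
        exact h.ne_one (hax.symm.trans this)
    have hsq : ∀ a : G, a * a = x → (c * a * c⁻¹) * (c * a * c⁻¹) = x := fun a ha => by
      calc (c * a * c⁻¹) * (c * a * c⁻¹) = c * (a * a) * c⁻¹ := by group
        _ = x := by rw [ha, hcx]
    refine hpow u 1 ?_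
    rw [pow_one, commute_iff_eq]
    rcases hc2 _ (hcn u hu) (hsq u hu2) with e | e
    · have : Commute c u := mul_inv_eq_iff_eq_mul.mp e
      exact (this.pow_left 2).eq
    · refine mul_inv_eq_iff_eq_mul.mp ?_
      calc c ^ 2 * u * (c ^ 2)⁻¹ = c * (c * u * c⁻¹) * c⁻¹ := by rw [pow_two]; group
        _ = c * (x * u) * c⁻¹ := by rw [e]
        _ = (c * x * c⁻¹) * (c * u * c⁻¹) := by group
        _ = u := by rw [hcx, e, ← mul_assoc, h.sq_one, one_mul]
  -- and `s`
  have hcs : Commute c s := by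
    have hcu' : c * u * c⁻¹ = u := mul_inv_eq_iff_eq_mul.mpr hcu.eq
    rcases hcover _ (hcn s hs) with e | ⟨k, hk⟩
    · exfalso
      obtain ⟨j, hj⟩ := e
      have : s = u ^ j := by
        have h1 : c⁻¹ * (c * s * c⁻¹) * c = s := by group
        rw [← h1, ← hj]
        calc c⁻¹ * u ^ j * c = u ^ j * (c⁻¹ * c) := by rw [((hcu.symm.zpow_left j).inv_right).symm.eq]; group
          _ = u ^ j := by group
      exact hsu (this ▸ zpow_mem (Subgroup.mem_zpowers u) j)
    · refine hpow s 2 ?_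
      have hstep : ∀ m : ℕ, c ^ m * s * (c ^ m)⁻¹ = u ^ (k * m) * s := by
        intro m
        induction m with
        | zero => simp
        | succ m ih =>
          have hum : c ^ m * u ^ k * (c ^ m)⁻¹ = u ^ k :=
            mul_inv_eq_iff_eq_mul.mpr ((hcu.pow_pow m k).eq)
          calc c ^ (m + 1) * s * (c ^ (m + 1))⁻¹ = c ^ m * (c * s * c⁻¹) * (c ^ m)⁻¹ := by
                rw [pow_succ]; group
            _ = (c ^ m * u ^ k * (c ^ m)⁻¹) * (c ^ m * s * (c ^ m)⁻¹) := by rw [hk]; group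
            _ = u ^ (k * (m + 1)) * s := by rw [hum, ih, ← mul_assoc, ← pow_add]; ring_nf
      have h4 := hstep (2 ^ 2)
      rw [show u ^ (k * 2 ^ 2) = 1 by rw [mul_comm, pow_mul, show (2 : ℕ) ^ 2 = orderOf u by rw [hu4]; rfl,
        pow_orderOf_eq_one, one_pow], one_mul] at h4
      exact mul_inv_eq_iff_eq_mul.mp h4
  have hcQ : c ∈ Subgroup.centralizer (qOf x : Set G) := by
    refine Subgroup.mem_centralizer_iff.mpr fun a ha => ?_
    rcases hcover a ha with ⟨j, rfl⟩ | ⟨k, rfl⟩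
    · exact (hcu.symm.zpow_left j).eq
    · exact ((hcu.symm.pow_left k).mul_left hcs.symm).eq
  obtain ⟨j, hj⟩ := (isPGroup_qOf x) ⟨c, h.selfCent hcQ⟩
  have hj' : c ^ 2 ^ j = 1 := congrArg Subtype.val hj
  have := (Nat.dvd_prime_pow Nat.prime_two).mp (orderOf_dvd_of_pow_eq_one hj')
  obtain ⟨i, -, hi⟩ := this
  rw [hcp] at hi
  cases i with
  | zero => exact hp.one_lt.ne' hi
  | succ i => exact hp2 ((Nat.prime_dvd_prime_iff_eq hp Nat.prime_two).mp
      (hp.dvd_of_dvd_pow (hi ▸ dvd_rfl : p ∣ 2 ^ (i + 1))))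

/-- Orthogonality is symmetric. -/
theorem Point.symm {z : G} (h : Point z) {g : G} (hx : g * z * g⁻¹ ∈ qOf z) : z ∈ qOf (g * z * g⁻¹) := by
  haveI : Fact (Nat.Prime 2) := ⟨Nat.prime_two⟩
  by_cases hne : g * z * g⁻¹ = z
  · rw [hne]; exact h.z_mem
  obtain ⟨n, hn, hcard⟩ := CfsgLib.PGroup.extraspecial_card h.extra
  rcases Nat.lt_or_ge n 2 with hn2 | hn2
  · obtain rfl : n = 1 := by omega
    have hs2 : g * z * g⁻¹ * (g * z * g⁻¹) = 1 := by
      calc g * z * g⁻¹ * (g * z * g⁻¹) = g * (z * z) * g⁻¹ := by group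
        _ = 1 := by rw [h.sq_one]; group
    have hp := h.centralizer_isPGroup (by rw [hcard]; norm_num) hx hs2 hne (fun e => h.ne_one (conj_eq_one_iff.mp e))
    have hp' : IsPGroup 2 ↥(Subgroup.centralizer ({g * z * g⁻¹} : Set G)) :=
      map_conj_centralizer g z ▸ hp.map _
    refine ⟨⟨z, Subgroup.mem_centralizer_singleton_iff.mpr (h.comm_z hx).symm⟩,
      CfsgLib.PCore.le_pCore (N := ⊤) inferInstance (hp'.to_subgroup ⊤) (Subgroup.mem_top _), rfl⟩
  · have hP : PairAt (qOf z) z g :=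
      ⟨h.toExtraAt, h.centralizer_eq, centralizer_le_normalizer_qOf z, hx, hne⟩
    rw [qOf_conj]
    refine hP.z_mem_W ?_
    rw [hcard]
    calc 32 = 2 ^ 5 := by norm_num
      _ ≤ 2 ^ (1 + 2 * n) := Nat.pow_le_pow_right (by norm_num) (by omega)

/-- The centralizer of the centralizer of a set in an extraspecial group is the span of that set and the
centre. -/
theorem mem_closure_of_double_centralizer {Q : Subgroup G} {z : G} (h : ExtraAt Q z) :
    ∀ l : List G, (∀ w ∈ l, w ∈ Q) → ∀ x ∈ Q,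
      (∀ q ∈ Q, (∀ w ∈ l, q * w = w * q) → q * x = x * q) →
      x ∈ Subgroup.closure (insert z {w | w ∈ l}) := by
  intro l
  induction l with
  | nil =>
    intro _ x hx hc
    rcases h.central_cases hx fun q hq => hc q hq (by simp) with e | e
    · exact e ▸ one_mem _
    · exact e ▸ Subgroup.subset_closure (Set.mem_insert _ _)
  | cons w l ih =>
    intro hl x hx hc
    have hw := hl w (by simp)
    have hl' : ∀ v ∈ l, v ∈ Q := fun v hv => hl v (by simp [hv])
    have hmono : Subgroup.closure (insert z {v | v ∈ l}) ≤ Subgroup.closure (insert z {v | v ∈ w :: l}) :=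
      Subgroup.closure_mono (Set.insert_subset_insert fun v hv => List.mem_cons_of_mem w hv)
    have hcl : ∀ q ∈ Q, q * w = w * q → (∀ v ∈ l, q * v = v * q) → q * x = x * q := fun q hq hqw hql =>
      hc q hq fun v hv => by
        rcases List.mem_cons.mp hv with rfl | hv
        exacts [hqw, hql v hv]
    by_cases hall : ∀ q ∈ Q, (∀ v ∈ l, q * v = v * q) → q * w = w * q
    · exact hmono (ih hl' x hx fun q hq hql => hcl q hq (hall q hq hql) hql)
    push Not at hall
    obtain ⟨y, hy, hyl, hyw⟩ := hall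
    have hyw' : y * w * y⁻¹ = z * w :=
      (h.conj_cases hy hw).resolve_left fun e => hyw (mul_inv_eq_iff_eq_mul.mp e)
    have key : ∀ x' ∈ Q, (∀ q ∈ Q, q * w = w * q → (∀ v ∈ l, q * v = v * q) → q * x' = x' * q) →
        y * x' = x' * y → x' ∈ Subgroup.closure (insert z {v | v ∈ l}) := by
      intro x' hx' hc' hyx
      refine ih hl' x' hx' fun q hq hql => ?_
      rcases h.conj_cases hq hw with e | e
      · exact hc' q hq (mul_inv_eq_iff_eq_mul.mp e) hql
      · have h1 : (y⁻¹ * q) * w = w * (y⁻¹ * q) := by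
          refine mul_inv_eq_iff_eq_mul.mp ?_
          calc y⁻¹ * q * w * (y⁻¹ * q)⁻¹ = y⁻¹ * (q * w * q⁻¹) * y := by group
            _ = y⁻¹ * (y * w * y⁻¹) * y := by rw [e, hyw']
            _ = w := by group
        have h2 := hc' _ (mul_mem (inv_mem hy) hq) h1 fun v hv =>
          ((show Commute y v from hyl v hv).inv_left.mul_left (show Commute q v from hql v hv)).eq
        calc q * x' = y * (y⁻¹ * q * x') := by group
          _ = (y * x') * (y⁻¹ * q) := by rw [h2]; group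
          _ = x' * q := by rw [hyx]; group
    rcases h.conj_cases hy hx with e | e
    · exact hmono (key x hx hcl (mul_inv_eq_iff_eq_mul.mp e))
    · have hxw : y * (x * w) = x * w * y := by
        refine mul_inv_eq_iff_eq_mul.mp ?_
        calc y * (x * w) * y⁻¹ = (y * x * y⁻¹) * (y * w * y⁻¹) := by group
          _ = z * (x * z) * w := by rw [e, hyw']; group
          _ = z * (z * x) * w := by rw [h.comm_z hx]
          _ = x * w := by rw [← mul_assoc z z x, h.sq_one, one_mul]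
      have h3 := hmono (key (x * w) (mul_mem hx hw)
        (fun q hq hqw hql => ((show Commute q x from hcl q hq hqw hql).mul_right hqw).eq) hxw)
      have h4 := mul_mem h3 (inv_mem (Subgroup.subset_closure
        (show w ∈ insert z {v | v ∈ w :: l} from Or.inr List.mem_cons_self)))
      simpa using h4

/-- The setting of a singular subgroup. -/
structure Sing (U : Subgroup G) : Prop where
  sq : ∀ u ∈ U, u * u = 1
  point : ∀ u ∈ U, u ≠ 1 → Point u
  orth : ∀ u ∈ U, ∀ v ∈ U, u ≠ 1 → v ∈ qOf u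

theorem Sing.of_setting {Q : G → Subgroup G} (hQ : ∀ x, Q x = qOf x) {z : G} (hz : orderOf z = 2)
    (hE : Cfsg.IsExtraspecial 2 ↥(Q z)) (hC : Subgroup.centralizer ((Q z : Subgroup G) : Set G) ≤ Q z)
    {U : Subgroup G} (hU2 : ∀ u ∈ U, u * u = 1) (hS : ∀ u ∈ U, u ≠ 1 → ∃ g : G, g * z * g⁻¹ = u)
    (hO : ∀ u ∈ U, ∀ v ∈ U, u ≠ 1 → v ≠ 1 → v ∈ Q u) : Sing U := by
  rw [hQ] at hE hC
  refine ⟨hU2, fun u hu h1 => ?_, fun u hu v hv h1 => ?_⟩
  · obtain ⟨g, rfl⟩ := hS u hu h1
    exact (Point.of_base hz hE hC).conj g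
  · by_cases hv1 : v = 1
    · exact hv1 ▸ one_mem _
    · exact hQ u ▸ hO u hu v hv h1 hv1

namespace Sing

variable {U : Subgroup G} (h : Sing U)
include h

theorem comm {a b : G} (ha : a ∈ U) (hb : b ∈ U) : a * b = b * a := by
  have hinv : ∀ c ∈ U, c⁻¹ = c := fun c hc => inv_eq_of_mul_eq_one_right (h.sq c hc)
  calc a * b = (a * b)⁻¹ := (hinv _ (mul_mem ha hb)).symm
    _ = b * a := by rw [mul_inv_rev, hinv a ha, hinv b hb]

theorem le_qOf {u : G} (hu : u ∈ U) (h1 : u ≠ 1) : U ≤ qOf u := fun v hv => h.orth u hu v hv h1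

theorem conj_mem {u q v : G} (hu : u ∈ U) (h1 : u ≠ 1) (hq : q ∈ qOf u) (hv : v ∈ U) :
    q * v * q⁻¹ ∈ U := by
  rcases (h.point u hu h1).conj_cases hq (h.le_qOf hu h1 hv) with e | e
  · rw [e]; exact hv
  · rw [e]; exact mul_mem hu hv

theorem qOf_le_normalizer {u : G} (hu : u ∈ U) (h1 : u ≠ 1) :
    qOf u ≤ Subgroup.normalizer (U : Set G) := fun q hq =>
  Subgroup.mem_normalizer_fintype (S := (U : Set G)) fun _ hv => h.conj_mem hu h1 hq hv

/-- A functional on `U` realised by `qOf u`: fix `W` and move `x`. -/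
theorem exists_move {u : G} (hu : u ∈ U) (h1 : u ≠ 1) {W : Subgroup G} (hW : W ≤ U) {x : G}
    (hx : x ∈ qOf u) (hxW : x ∉ W ⊔ Subgroup.zpowers u) :
    ∃ q ∈ qOf u, (∀ w ∈ W, q * w = w * q) ∧ q * x * q⁻¹ = u * x := by
  classical
  by_contra hne
  push Not at hne
  haveI : Fintype ↥W := Fintype.ofFinite _
  refine hxW ((Subgroup.closure_le _).mpr ?_ (mem_closure_of_double_centralizer (h.point u hu h1).toExtraAt
    ((Finset.univ : Finset ↥W).toList.map Subtype.val) ?_ x hx ?_))
  · rintro v (rfl | hv)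
    · exact Subgroup.mem_sup_right (Subgroup.mem_zpowers _)
    · obtain ⟨w, -, rfl⟩ := List.mem_map.mp hv
      exact Subgroup.mem_sup_left w.2
  · intro v hv
    obtain ⟨w, -, rfl⟩ := List.mem_map.mp hv
    exact h.le_qOf hu h1 (hW w.2)
  · intro q hq hql
    have hqW : ∀ w ∈ W, q * w = w * q := fun w hw =>
      hql w (List.mem_map.mpr ⟨⟨w, hw⟩, by simp, rfl⟩)
    exact mul_inv_eq_iff_eq_mul.mp (((h.point u hu h1).conj_cases hq hx).resolve_right (hne q hq hqW))

theorem exists_swap {u v : G} (hu : u ∈ U) (h1 : u ≠ 1) (hv : v ∈ U) (hv1 : v ≠ 1) (hne : v ≠ u) :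
    ∃ q ∈ qOf u, q * v * q⁻¹ = u * v :=
  (h.point u hu h1).exists_conj_eq (h.le_qOf hu h1 hv) hv1 hne

theorem inf_le_qOf_mul {u v : G} (hu : u ∈ U) (h1 : u ≠ 1) (hv : v ∈ U) (hv1 : v ≠ 1) (hne : u ≠ v) :
    qOf u ⊓ qOf v ≤ qOf (u * v) := by
  obtain ⟨q, hq, hqu⟩ := h.exists_swap hv hv1 hu h1 hne
  have hm : ∀ x ∈ qOf u ⊓ qOf v, q⁻¹ * x * q ∈ qOf u ⊓ qOf v := by
    intro x hx
    have hvi : v ∈ qOf u ⊓ qOf v := ⟨h.orth u hu v hv h1, h.orth v hv v hv hv1⟩
    rcases (h.point v hv hv1).conj_cases (inv_mem hq) hx.2 with e | e <;> rw [inv_inv] at e <;> rw [e]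
    · exact hx
    · exact mul_mem hvi hx
  intro x hx
  rw [show u * v = q * u * q⁻¹ by rw [hqu, h.comm hu hv], qOf_conj]
  exact ⟨q⁻¹ * x * q, (hm x hx).1, by simp [mul_assoc]⟩

end Sing

end CfsgLib.Singular39
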