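import Mathlib
import Cfsg.Prelude.Def_MonsterType
import Cfsg.Agent.Lib.LargeExtra.Decomp

/-! Extraspecial images in quotients, and largeness from centralizer data. -/

set_option autoImplicit false

namespace CfsgLib.LargeExtra

open Cfsg

theorem extraAt_mk {H : Type*} [Group H] [Finite H] {R : Subgroup H} {z : H} (hp : IsPGroup 2 R)
    (hz2 : orderOf z = 2) (hzc : ∀ y ∈ R, y * z = z * y)
    (hcomm : ∀ a ∈ R, ∀ b ∈ R, a * b * a⁻¹ = b ∨ a * b * a⁻¹ = z * b)
    (hsq : ∀ a ∈ R, a * a = 1 ∨ a * a = z)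
    (hcen : ∀ x ∈ R, (∀ y ∈ R, y * x = x * y) → x = 1 ∨ x = z)
    (hna : ∃ a ∈ R, ∃ b ∈ R, a * b ≠ b * a) : ExtraAt R z := by
  haveI : Fact (Nat.Prime 2) := ⟨Nat.prime_two⟩
  obtain ⟨a, ha, b, hb, hab⟩ := hna
  have hcm : a * b * a⁻¹ * b⁻¹ = z := by
    rcases hcomm a ha b hb with e | e
    · exact absurd (mul_inv_eq_iff_eq_mul.mp e) hab
    · rw [e, mul_inv_cancel_right]
  have hzR : z ∈ R := hcm ▸ mul_mem (mul_mem (mul_mem ha hb) (inv_mem ha)) (inv_mem hb)
  have hzcen : (⟨z, hzR⟩ : R) ∈ Subgroup.center R :=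
    Subgroup.mem_center_iff.mpr fun y => Subtype.ext (hzc y y.2)
  have hcz : (Subgroup.center ↥R).map R.subtype = Subgroup.zpowers z := by
    refine le_antisymm ?_ (Subgroup.zpowers_le.mpr ⟨_, hzcen, rfl⟩)
    rintro _ ⟨c, hc, rfl⟩
    rcases hcen c c.2 (fun y hy => congrArg Subtype.val (Subgroup.mem_center_iff.mp hc ⟨y, hy⟩)) with e | e
    · rw [Subgroup.coe_subtype, e]; exact one_mem _
    · rw [Subgroup.coe_subtype, e]; exact Subgroup.mem_zpowers z
  have mem_center : ∀ x : R, ((x : H) = 1 ∨ (x : H) = z) → x ∈ Subgroup.center R := by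
    rintro x (e | e)
    · rw [show x = 1 from Subtype.ext e]; exact one_mem _
    · rw [show x = ⟨z, hzR⟩ from Subtype.ext e]; exact hzcen
  have hcommle : commutator R ≤ Subgroup.center R := by
    rw [commutator_def, Subgroup.commutator_le]
    rintro x - y -
    refine mem_center _ ?_
    show (x : H) * y * (x : H)⁻¹ * (y : H)⁻¹ = 1 ∨ (x : H) * y * (x : H)⁻¹ * (y : H)⁻¹ = z
    rcases hcomm x x.2 y y.2 with e | e <;> rw [e]
    · exact Or.inl (mul_inv_cancel _)
    · exact Or.inr (mul_inv_cancel_right _ _)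
  have hzle : Subgroup.center R ≤ commutator R := by
    have hm : (⟨a, ha⟩ : R) * ⟨b, hb⟩ * (⟨a, ha⟩ : R)⁻¹ * (⟨b, hb⟩ : R)⁻¹ ∈ commutator R := by
      rw [commutator_def]
      exact Subgroup.commutator_mem_commutator (Subgroup.mem_top _) (Subgroup.mem_top _)
    intro c hc
    rcases hcen c c.2 (fun y hy => congrArg Subtype.val (Subgroup.mem_center_iff.mp hc ⟨y, hy⟩)) with e | e
    · rw [show c = 1 from Subtype.ext e]; exact one_mem _
    · convert hm
      exact Subtype.ext (e.trans hcm.symm)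
  refine ⟨⟨⟨hp, le_antisymm ?_ ?_, le_antisymm hcommle hzle⟩, ?_⟩, hz2, hcz⟩
  · refine CfsgLib.PGroup.frattini_le_of (p := 2) _ hcommle fun x => mem_center _ ?_
    rw [Subgroup.coe_pow, sq]
    exact hsq x x.2
  · exact hzle.trans (CfsgLib.PGroup.commutator_le_frattini hp)
  · rw [← Subgroup.card_map_of_injective R.subtype_injective, hcz, Nat.card_zpowers, hz2]

/-- The image of a subgroup of an extraspecial group under a homomorphism defined on `M`. -/
theorem extraAt_image {G : Type*} [Group G] [Finite G] {H : Type*} [Group H] [Finite H] {Q : Subgroup G}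
    {z : G} (h : ExtraAt Q z) (M : Subgroup G) (π : M →* H) {R : Subgroup G} (hRQ : R ≤ Q) (hzM : z ∈ M)
    (hz1 : π ⟨z, hzM⟩ ≠ 1)
    (hcen : ∀ x : M, (x : G) ∈ R → (∀ y : M, (y : G) ∈ R → π (y * x) = π (x * y)) →
      π x = 1 ∨ π x = π ⟨z, hzM⟩)
    (hna : ∃ a b : M, (a : G) ∈ R ∧ (b : G) ∈ R ∧ π (a * b) ≠ π (b * a)) :
    ExtraAt ((R.subgroupOf M).map π) (π ⟨z, hzM⟩) := by
  haveI : Fact (Nat.Prime 2) := ⟨Nat.prime_two⟩
  have hzz : (⟨z, hzM⟩ : M) * ⟨z, hzM⟩ = 1 := Subtype.ext h.sq_one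
  obtain ⟨a, b, ha, hb, hab⟩ := hna
  have hRp : IsPGroup 2 (R.subgroupOf M) := by
    intro x
    obtain ⟨k, hk⟩ := (h.extra.1.1.to_le hRQ) ⟨((x : M) : G), x.2⟩
    exact ⟨k, Subtype.ext (Subtype.ext (by simpa using congrArg Subtype.val hk))⟩
  refine extraAt_mk (hRp.map π) ?_ ?_ ?_ ?_ ?_
    ⟨π a, ⟨a, ha, rfl⟩, π b, ⟨b, hb, rfl⟩, by rwa [← map_mul, ← map_mul]⟩
  · refine orderOf_eq_prime ?_ hz1
    rw [sq, ← map_mul, hzz, map_one]
  · rintro _ ⟨y, hy, rfl⟩
    rw [← map_mul, ← map_mul]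
    exact congrArg π (Subtype.ext (h.comm_z (hRQ hy)))
  · rintro _ ⟨x, hx, rfl⟩ _ ⟨y, hy, rfl⟩
    rw [← map_inv, ← map_mul, ← map_mul, ← map_mul]
    rcases h.conj_cases (hRQ hx) (hRQ hy) with e | e
    · exact Or.inl (congrArg π (Subtype.ext e))
    · exact Or.inr (congrArg π (Subtype.ext e))
  · rintro _ ⟨x, hx, rfl⟩
    rw [← map_mul]
    rcases h.sq_cases (hRQ hx) with e | e
    · exact Or.inl (by rw [show x * x = 1 from Subtype.ext e, map_one])
    · exact Or.inr (congrArg π (Subtype.ext e))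
  · rintro _ ⟨x, hx, rfl⟩ hc
    refine hcen x hx fun y hy => ?_
    rw [map_mul, map_mul]
    exact hc _ ⟨y, hy, rfl⟩

/-- Largeness from centralizer data. -/
theorem isLarge_of_data {H : Type*} [Group H] [Finite H] {R : Subgroup H} {z s y : H} (h : ExtraAt R z)
    (hself : ∀ x, (∀ r ∈ R, r * x = x * r) → x = 1 ∨ x = z)
    (hnorm : ∀ x, x * z = z * x → ∀ r ∈ R, x * r * x⁻¹ ∈ R)
    (hs : s ∈ R) (hy : y ∈ R) (hs2 : s * s = 1) (hys : y * s * y⁻¹ = z * s)
    (hfix : ∀ K : Subgroup H, Odd (Nat.card K) → R ≤ Subgroup.normalizer (K : Set H) →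
      (∀ k ∈ K, z * k = k * z → k = 1) → ∀ k ∈ K, s * k = k * s → k = 1) :
    IsLargeExtraspecial R := by
  have hcentz : ∀ x, x ∈ Subgroup.centralizer (((Subgroup.center ↥R).map R.subtype : Subgroup H) : Set H) →
      x * z = z * x := fun x hx =>
    (Subgroup.mem_centralizer_iff.mp hx z (h.centre ▸ Subgroup.mem_zpowers z)).symm
  have hnorm' : Subgroup.centralizer (((Subgroup.center ↥R).map R.subtype : Subgroup H) : Set H) ≤
      Subgroup.normalizer (R : Set H) := by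
    intro x hx
    rw [Subgroup.mem_normalizer_iff]
    intro r
    refine ⟨fun hr => hnorm x (hcentz x hx) r hr, fun hr => ?_⟩
    have := hnorm x⁻¹ ((show Commute x z from hcentz x hx).inv_left.eq) _ hr
    simpa [mul_assoc] using this
  have hselfeq : Subgroup.centralizer (R : Set H) = (Subgroup.center ↥R).map R.subtype := by
    refine le_antisymm (fun x hx => ?_) ?_
    · rw [h.centre, h.mem_zpowers_z]
      exact hself x fun r hr => Subgroup.mem_centralizer_iff.mp hx r hr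
    · rw [h.centre, Subgroup.zpowers_le, Subgroup.mem_centralizer_iff]
      exact fun r hr => h.comm_z hr
  refine ⟨h.extra, hselfeq, hnorm', fun K hK hRK => ?_⟩
  have hfz : ∀ k ∈ K, z * k = k * z → k = 1 := fun k hk hkz => by
    refine odd_trivial_of_centralizes_centre h.extra hselfeq hnorm' hK hRK hk fun t ht => ?_
    rw [h.centre] at ht
    obtain ⟨n, rfl⟩ := Subgroup.mem_zpowers_iff.mp ht
    exact (Commute.zpow_left hkz n).eq
  exact odd_trivial_of_four hK (hRK h.z_mem) (hRK hs) (hRK hy) hs2 hys hfz (hfix K hK hRK hfz)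

end CfsgLib.LargeExtra
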