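import Mathlib
import Cfsg.Agent.Lib.LargeExtra.Quot

/-! The centralizer of a point in a copy of `W ⋊ GL(W)`, `W = F₂ × F₂ⁿ`, inside a group. -/

set_option autoImplicit false

namespace CfsgLib.LargeExtra.Holo

open Cfsg

/-- The vector space `F₂ × F₂ⁿ`. -/
abbrev W (n : ℕ) : Type := ZMod 2 × (Fin n → ZMod 2)

/-- Its automorphisms. -/
abbrev AutW (n : ℕ) : Type := W n ≃ₗ[ZMod 2] W n

variable {n : ℕ}

/-- The distinguished vector. -/
def pt (n : ℕ) : W n := (1, 0)

theorem two_cases : ∀ a : ZMod 2, a = 0 ∨ a = 1 := by decide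

theorem add_self_W (a : W n) : a + a = 0 :=
  Prod.ext (CharTwo.add_self_eq_zero _) (funext fun _ => CharTwo.add_self_eq_zero _)

theorem neg_W (a : W n) : -a = a := neg_eq_of_add_eq_zero_left (add_self_W a)

/-- The sum `∑ wᵢ vᵢ`. -/
def pair (w v : Fin n → ZMod 2) : ZMod 2 := ∑ i, w i * v i

theorem pair_add (w v v' : Fin n → ZMod 2) : pair w (v + v') = pair w v + pair w v' := by
  simp [pair, mul_add, Finset.sum_add_distrib]

theorem pair_single (w : Fin n → ZMod 2) (i : Fin n) : pair w (Pi.single i 1) = w i := by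
  simp [pair, Pi.single_apply]

/-- `(a, v) ↦ (a + w·v, v)`. -/
def tw (w : Fin n → ZMod 2) : AutW n where
  toFun x := (x.1 + pair w x.2, x.2)
  invFun x := (x.1 + pair w x.2, x.2)
  left_inv x := Prod.ext (by simp [add_assoc, CharTwo.add_self_eq_zero]) rfl
  right_inv x := Prod.ext (by simp [add_assoc, CharTwo.add_self_eq_zero]) rfl
  map_add' x y := Prod.ext (by simp only [Prod.fst_add, Prod.snd_add, pair_add]; ring) rfl
  map_smul' c x := by
    rcases two_cases c with rfl | rfl <;> simp [pair]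

theorem tw_apply (w : Fin n → ZMod 2) (x : W n) : tw w x = (x.1 + pair w x.2, x.2) := rfl

theorem tw_mul (w w' : Fin n → ZMod 2) : tw w * tw w' = tw (w + w') := by
  apply LinearEquiv.ext
  intro x
  show tw w (tw w' x) = tw (w + w') x
  simp only [tw_apply, pair, Pi.add_apply, add_mul, Finset.sum_add_distrib]
  exact Prod.ext (by ring) rfl

theorem tw_zero : tw (0 : Fin n → ZMod 2) = 1 := by
  apply LinearEquiv.ext
  intro x
  exact Prod.ext (by simp [tw_apply, pair]) rfl

theorem tw_injective : Function.Injective (tw : (Fin n → ZMod 2) → AutW n) := by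
  intro w w' h
  funext i
  have := congrArg (fun f : AutW n => (f ((0 : ZMod 2), Pi.single i 1)).1) h
  simpa [tw_apply, pair_single] using this

/-- The fixers of the distinguished vector acting trivially modulo it. -/
def IsTw (g : AutW n) : Prop := g (pt n) = pt n ∧ ∀ x, (g x).2 = x.2

theorem isTw_tw (w : Fin n → ZMod 2) : IsTw (tw w) :=
  ⟨Prod.ext (by simp [tw_apply, pt, pair]) rfl, fun _ => rfl⟩

theorem split_W (x : W n) : x = x.1 • pt n + ((0 : ZMod 2), x.2) := by
  ext <;> simp [pt]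

theorem IsTw.eq_tw {g : AutW n} (h : IsTw g) : ∃ w, g = tw w := by
  let f : (Fin n → ZMod 2) →ₗ[ZMod 2] ZMod 2 :=
    (LinearMap.fst (ZMod 2) (ZMod 2) (Fin n → ZMod 2)).comp
      (g.toLinearMap.comp (LinearMap.inr (ZMod 2) (ZMod 2) (Fin n → ZMod 2)))
  refine ⟨fun i => f (Pi.single i 1), LinearEquiv.ext fun x => ?_⟩
  have hv : ((g ((0 : ZMod 2), x.2)).1 : ZMod 2) = pair (fun i => f (Pi.single i 1)) x.2 := by
    show f x.2 = _
    conv_lhs => rw [pi_eq_sum_univ' x.2]
    simp [pair, map_sum, map_smul, mul_comm]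
  have hg : g x = x.1 • pt n + g ((0 : ZMod 2), x.2) := by
    conv_lhs => rw [split_W x]
    rw [map_add, map_smul, h.1]
  rw [tw_apply, hg]
  refine Prod.ext ?_ ?_
  · simp [pt, hv]
  · simp [pt, h.2]

/-- The action of a matrix on the second component. -/
def kk : Matrix.GeneralLinearGroup (Fin n) (ZMod 2) →* AutW n where
  toFun A :=
    { toFun := fun x => (x.1, (A : Matrix (Fin n) (Fin n) (ZMod 2)).mulVec x.2)
      invFun := fun x => (x.1, ((A⁻¹ : Matrix.GeneralLinearGroup (Fin n) (ZMod 2)) : Matrix (Fin n) (Fin n) (ZMod 2)).mulVec x.2)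
      left_inv := fun x => Prod.ext rfl (by
        simp only [Matrix.mulVec_mulVec, Units.inv_mul, Matrix.one_mulVec])
      right_inv := fun x => Prod.ext rfl (by
        simp only [Matrix.mulVec_mulVec, Units.mul_inv, Matrix.one_mulVec])
      map_add' := fun x y => by simp [Matrix.mulVec_add]
      map_smul' := fun c x => by simp [Matrix.mulVec_smul] }
  map_one' := by
    apply LinearEquiv.ext
    intro x
    exact Prod.ext rfl (Matrix.one_mulVec _)
  map_mul' A B := by
    apply LinearEquiv.ext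
    intro x
    refine Prod.ext rfl ?_
    show ((A * B : Matrix.GeneralLinearGroup (Fin n) (ZMod 2)) : Matrix (Fin n) (Fin n) (ZMod 2)).mulVec x.2 =
      (A : Matrix (Fin n) (Fin n) (ZMod 2)).mulVec ((B : Matrix (Fin n) (Fin n) (ZMod 2)).mulVec x.2)
    simp [Matrix.mulVec_mulVec]

theorem kk_apply (A : Matrix.GeneralLinearGroup (Fin n) (ZMod 2)) (x : W n) :
    kk A x = (x.1, (A : Matrix (Fin n) (Fin n) (ZMod 2)).mulVec x.2) := rfl

theorem kk_fix (A : Matrix.GeneralLinearGroup (Fin n) (ZMod 2)) : kk A (pt n) = pt n := by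
  simp [kk_apply, pt]

theorem kk_eq_one_of_isTw {A : Matrix.GeneralLinearGroup (Fin n) (ZMod 2)} (h : IsTw (kk A)) : A = 1 := by
  apply Units.ext
  refine Matrix.ext_of_mulVec_single fun i => ?_
  have := h.2 ((0 : ZMod 2), Pi.single i 1)
  rw [kk_apply] at this
  rw [Units.val_one, Matrix.one_mulVec]
  exact this

theorem fix_decomp {g : AutW n} (h : g (pt n) = pt n) : ∃ w A, g = tw w * kk A := by
  have hpt : ∀ x : W n, (g x).2 = (g ((0 : ZMod 2), x.2)).2 := by
    intro x
    conv_lhs => rw [split_W x]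
    rw [map_add, map_smul, h]
    simp [pt]
  let L : (Fin n → ZMod 2) →ₗ[ZMod 2] (Fin n → ZMod 2) :=
    (LinearMap.snd (ZMod 2) (ZMod 2) (Fin n → ZMod 2)).comp
      (g.toLinearMap.comp (LinearMap.inr (ZMod 2) (ZMod 2) (Fin n → ZMod 2)))
  have hL : Function.Surjective L := by
    intro v
    obtain ⟨x, hx⟩ := g.surjective ((0 : ZMod 2), v)
    refine ⟨x.2, ?_⟩
    show (g ((0 : ZMod 2), x.2)).2 = v
    rw [← hpt x, hx]
  have hLi : Function.Injective L := Finite.injective_iff_surjective.mpr hL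
  let e : (Fin n → ZMod 2) ≃ₗ[ZMod 2] (Fin n → ZMod 2) := LinearEquiv.ofBijective L ⟨hLi, hL⟩
  let A : Matrix.GeneralLinearGroup (Fin n) (ZMod 2) :=
    ⟨LinearMap.toMatrix' e.toLinearMap, LinearMap.toMatrix' e.symm.toLinearMap,
      by rw [← LinearMap.toMatrix'_comp, LinearEquiv.comp_symm, LinearMap.toMatrix'_id],
      by rw [← LinearMap.toMatrix'_comp, LinearEquiv.symm_comp, LinearMap.toMatrix'_id]⟩
  have hA : ∀ v, (A : Matrix (Fin n) (Fin n) (ZMod 2)).mulVec v = L v := fun v => by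
    show (LinearMap.toMatrix' e.toLinearMap).mulVec v = _
    rw [LinearMap.toMatrix'_mulVec]
    rfl
  have hk : ∀ x, ((kk A) x).2 = (g x).2 := fun x => by rw [kk_apply, hpt x]; exact hA x.2
  have hT : IsTw (g * (kk A)⁻¹) := by
    refine ⟨?_, fun x => ?_⟩
    · show g ((kk A)⁻¹ (pt n)) = pt n
      rw [show (kk A)⁻¹ (pt n) = pt n from (LinearEquiv.symm_apply_eq _).mpr (kk_fix A).symm, h]
    · show (g ((kk A).symm x)).2 = x.2
      rw [← hk, LinearEquiv.apply_symm_apply]
  obtain ⟨w, hw⟩ := hT.eq_tw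
  exact ⟨w, A, by rw [← hw, inv_mul_cancel_right]⟩

theorem isTw_conj {g t : AutW n} (hg : g (pt n) = pt n) (ht : IsTw t) : IsTw (g * t * g⁻¹) := by
  obtain ⟨w, A, rfl⟩ := fix_decomp hg
  have hsym : (tw w * kk A)⁻¹ (pt n) = pt n :=
    (LinearEquiv.symm_apply_eq (tw w * kk A)).mpr hg.symm
  refine ⟨?_, fun x => ?_⟩
  · show (tw w * kk A) (t ((tw w * kk A)⁻¹ (pt n))) = pt n
    rw [hsym, ht.1, hg]
  · show ((tw w * kk A) (t ((tw w * kk A).symm x))).2 = x.2
    set y := (tw w * kk A).symm x with hy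
    have h2 : ∀ u u' : W n, u.2 = u'.2 → ((tw w * kk A) u).2 = ((tw w * kk A) u').2 := fun u u' e => by
      show (tw w (kk A u)).2 = (tw w (kk A u')).2
      simp only [tw_apply, kk_apply, e]
    rw [h2 _ y (ht.2 y), hy, LinearEquiv.apply_symm_apply]

/-- `GL(n, 2)` has no nontrivial normal 2-subgroup. -/
theorem twoGroup_normal_GL (R : Subgroup (Matrix.GeneralLinearGroup (Fin n) (ZMod 2))) (hR : R.Normal)
    (hp : IsPGroup 2 R) : R = ⊥ := by
  classical
  rw [Subgroup.eq_bot_iff_forall]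
  intro r hr
  rcases Nat.eq_zero_or_pos n with rfl | hn
  · exact Subsingleton.elim _ _
  haveI : Fact (Nat.Prime 2) := ⟨Nat.prime_two⟩
  letI : MulAction R (Fin n → ZMod 2) :=
    { smul := fun A v => ((A : Matrix.GeneralLinearGroup (Fin n) (ZMod 2)) : Matrix (Fin n) (Fin n) (ZMod 2)).mulVec v
      one_smul := fun v => Matrix.one_mulVec v
      mul_smul := fun A B v => (Matrix.mulVec_mulVec v _ _).symm }
  have h2 : 2 ∣ Nat.card (Fin n → ZMod 2) := by
    rw [Nat.card_fun, Nat.card_zmod, Nat.card_fin]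
    exact dvd_pow_self 2 (by omega)
  obtain ⟨v, hv, hv0⟩ := hp.exists_fixed_point_of_prime_dvd_card_of_fixed_point (Fin n → ZMod 2) h2
    (a := 0) (fun A => Matrix.mulVec_zero _)
  let F : Set (Fin n → ZMod 2) :=
    {u | ∀ A ∈ R, (A : Matrix (Fin n) (Fin n) (ZMod 2)).mulVec u = u}
  have hvF : v ∈ F := fun A hA => hv ⟨A, hA⟩
  have hinv : ∀ (g : Matrix.GeneralLinearGroup (Fin n) (ZMod 2)), ∀ u ∈ F,
      (g : Matrix (Fin n) (Fin n) (ZMod 2)).mulVec u ∈ F := by
    intro g u hu A hA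
    have := hu _ (hR.conj_mem A hA g⁻¹)
    conv_rhs => rw [← this]
    rw [Matrix.mulVec_mulVec, Matrix.mulVec_mulVec, ← Units.val_mul, ← Units.val_mul]
    congr 2
    group
  have hadd : ∀ u ∈ F, ∀ u' ∈ F, u + u' ∈ F := fun u hu u' hu' A hA => by
    rw [Matrix.mulVec_add, hu A hA, hu' A hA]
  obtain ⟨i, hi⟩ : ∃ i, v i = 1 := by
    by_contra h
    push Not at h
    exact hv0 (funext fun i => ((two_cases (v i)).resolve_right (h i)).symm)
  -- transvections move `v` to `v + x` whenever `x i = 0`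
  have htv : ∀ x : Fin n → ZMod 2, x i = 0 → v + x ∈ F := by
    intro x hx
    let M : Matrix (Fin n) (Fin n) (ZMod 2) := 1 + Matrix.vecMulVec x (Pi.single i 1)
    have hM : M * M = 1 := by
      have hsq : Matrix.vecMulVec x (Pi.single i 1) * Matrix.vecMulVec x (Pi.single i 1) = 0 := by
        rw [Matrix.vecMulVec_mul_vecMulVec]
        have : (Pi.single i (1 : ZMod 2)) ⬝ᵥ x = 0 := by rw [single_dotProduct, hx, mul_zero]
        ext a b
        simp [Matrix.vecMulVec_apply, this]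
      simp only [M, mul_add, add_mul, mul_one, one_mul, hsq, add_zero]
      ext a b
      simp [add_assoc, CharTwo.add_self_eq_zero]
    have := hinv ⟨M, M, hM, hM⟩ v hvF
    convert this using 1
    show v + x = M.mulVec v
    funext a
    simp [M, Matrix.add_mulVec, Matrix.vecMulVec_mulVec, single_dotProduct, hi]
  have hall : ∀ u, u ∈ F := by
    intro u
    rcases two_cases (u i) with h0 | h1
    · have := hadd v hvF _ (htv u h0)
      convert this using 1
      funext a
      simp [← add_assoc, CharTwo.add_self_eq_zero]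
    · have := htv (u + v) (by simp [h1, hi, CharTwo.add_self_eq_zero])
      convert this using 1
      funext a
      simp [add_comm (u a), ← add_assoc, CharTwo.add_self_eq_zero]
  apply Units.ext
  refine Matrix.ext_of_mulVec_single fun j => ?_
  rw [hall (Pi.single j 1) r hr, Units.val_one, Matrix.one_mulVec]

/-! ### The model inside a group -/

/-- A copy of `W ⋊ AutW` inside `G`. -/
structure Model (G : Type*) [Group G] (n : ℕ) where
  u : W n → G
  m : AutW n →* G
  u_add : ∀ a b, u (a + b) = u a * u b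
  u_inj : Function.Injective u
  m_inj : Function.Injective m
  conj : ∀ g a, m g * u a * (m g)⁻¹ = u (g a)
  sep : ∀ g a, m g = u a → g = 1
  gen : ∀ x : G, ∃ a g, x = u a * m g

namespace Model

variable {G : Type*} [Group G] (D : Model G n)

theorem u_zero : D.u 0 = 1 := by
  have h := D.u_add 0 0
  rw [add_zero] at h
  exact mul_eq_left.mp h.symm

theorem u_sq (a : W n) : D.u a * D.u a = 1 := by rw [← D.u_add, add_self_W, D.u_zero]

theorem u_inv (a : W n) : (D.u a)⁻¹ = D.u a := inv_eq_of_mul_eq_one_right (D.u_sq a)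

theorem uniq {a b : W n} {g h : AutW n} (e : D.u a * D.m g = D.u b * D.m h) : a = b ∧ g = h := by
  have : D.m (g * h⁻¹) = D.u (a + b) := by
    rw [map_mul, map_inv, D.u_add]
    nth_rewrite 1 [← D.u_inv a]
    rw [mul_inv_eq_iff_eq_mul, eq_comm, mul_assoc, inv_mul_eq_iff_eq_mul]
    exact e.symm
  have hg : g = h := mul_inv_eq_one.mp (D.sep _ _ this)
  subst hg
  exact ⟨D.u_inj (mul_right_cancel e), rfl⟩

theorem mul_formula (a b : W n) (g h : AutW n) :
    D.u a * D.m g * (D.u b * D.m h) = D.u (a + g b) * D.m (g * h) := by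
  rw [D.u_add, map_mul, ← D.conj g b]
  group

/-- The centre involution. -/
def zz : G := D.u (pt n)

theorem comm_zz_iff (a : W n) (g : AutW n) :
    D.u a * D.m g * D.zz = D.zz * (D.u a * D.m g) ↔ g (pt n) = pt n := by
  have h1 : D.u a * D.m g * D.zz = D.u (a + g (pt n)) * D.m g := by
    have := D.mul_formula a (pt n) g 1
    rwa [map_one, mul_one, mul_one] at this
  have h2 : D.zz * (D.u a * D.m g) = D.u (a + pt n) * D.m g := by
    rw [add_comm, D.u_add, zz]; group
  rw [h1, h2]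
  constructor
  · intro h; exact add_left_cancel (D.uniq h).1
  · intro h; rw [h]

/-- The subgroup `W ⋊ T`. -/
def qsub : Subgroup G where
  carrier := {x | ∃ a w, x = D.u a * D.m (tw w)}
  one_mem' := ⟨0, 0, by rw [tw_zero, map_one, D.u_zero, one_mul]⟩
  mul_mem' := by
    rintro _ _ ⟨a, w, rfl⟩ ⟨b, v, rfl⟩
    exact ⟨a + tw w b, w + v, by rw [D.mul_formula, tw_mul]⟩
  inv_mem' := by
    rintro _ ⟨a, w, rfl⟩
    refine ⟨tw w a, w, inv_eq_of_mul_eq_one_right ?_⟩
    have h1 : tw w (tw w a) = a := by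
      show (tw w * tw w) a = a
      rw [tw_mul, show w + w = 0 from funext fun i => CharTwo.add_self_eq_zero _, tw_zero]
      rfl
    rw [D.mul_formula, h1, add_self_W, tw_mul, show w + w = 0 from funext fun i => CharTwo.add_self_eq_zero _,
      tw_zero, map_one, D.u_zero, one_mul]

theorem card_qsub [Finite G] : Nat.card D.qsub = 2 ^ (2 * n + 1) := by
  let f : W n × (Fin n → ZMod 2) → D.qsub := fun p => ⟨D.u p.1 * D.m (tw p.2), p.1, p.2, rfl⟩
  have hf : Function.Bijective f := by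
    constructor
    · rintro ⟨a, w⟩ ⟨b, v⟩ h
      obtain ⟨h1, h2⟩ := D.uniq (congrArg Subtype.val h)
      exact Prod.ext h1 (tw_injective h2)
    · rintro ⟨_, a, w, rfl⟩; exact ⟨(a, w), rfl⟩
  rw [← Nat.card_eq_of_bijective f hf, Nat.card_prod, Nat.card_prod, Nat.card_fun, Nat.card_zmod,
    Nat.card_fin]
  ring

theorem extraAt_qsub [Finite G] (hn : 1 ≤ n) : ExtraAt D.qsub D.zz := by
  haveI : Fact (Nat.Prime 2) := ⟨Nat.prime_two⟩
  have hzpt : pt n ≠ 0 := fun e => one_ne_zero (α := ZMod 2) (congrArg Prod.fst e)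
  have hcases : ∀ c : ZMod 2, D.u ((c, 0) : W n) = 1 ∨ D.u ((c, 0) : W n) = D.zz := by
    intro c
    rcases two_cases c with rfl | rfl
    · exact Or.inl D.u_zero
    · exact Or.inr rfl
  refine extraAt_mk ((IsPGroup.iff_card).mpr ⟨_, D.card_qsub⟩) ?_ ?_ ?_ ?_ ?_ ?_
  · refine orderOf_eq_prime ((sq _).trans (D.u_sq _)) fun e => hzpt (D.u_inj ?_)
    rw [D.u_zero]; exact e
  · rintro _ ⟨a, w, rfl⟩
    exact (D.comm_zz_iff a (tw w)).mpr (isTw_tw w).1
  · rintro _ ⟨a, w, rfl⟩ _ ⟨b, v, rfl⟩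
    have e : D.u a * D.m (tw w) * (D.u b * D.m (tw v)) * (D.u a * D.m (tw w))⁻¹ =
        D.u ((pair w b.2 + pair v a.2, 0) : W n) * (D.u b * D.m (tw v)) := by
      rw [mul_inv_eq_iff_eq_mul, D.mul_formula, mul_assoc, D.mul_formula, ← mul_assoc, ← D.u_add,
        tw_mul, tw_mul, add_comm v w]
      congr 2
      simp only [tw_apply]
      refine Prod.ext ?_ ?_
      · simp only [Prod.fst_add]
        linear_combination (pair v a.2 * 0 : ZMod 2) - CharTwo.add_self_eq_zero (pair v a.2)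
      · simp [add_comm]
    rw [e]
    rcases hcases (pair w b.2 + pair v a.2) with h | h <;> rw [h]
    · exact Or.inl (one_mul _)
    · exact Or.inr rfl
  · rintro _ ⟨a, w, rfl⟩
    have e : D.u a * D.m (tw w) * (D.u a * D.m (tw w)) = D.u ((pair w a.2, 0) : W n) := by
      rw [D.mul_formula, tw_mul, show w + w = 0 from funext fun i => CharTwo.add_self_eq_zero _, tw_zero,
        map_one, mul_one]
      congr 1
      refine Prod.ext ?_ ?_
      · simp [tw_apply, ← add_assoc, CharTwo.add_self_eq_zero]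
      · funext i; simp [tw_apply, CharTwo.add_self_eq_zero]
    rw [e]; exact hcases _
  · rintro _ ⟨a, w, rfl⟩ hc
    have hw : w = 0 := by
      funext i
      have h := hc _ ⟨((0 : ZMod 2), Pi.single i 1), 0, rfl⟩
      rw [D.mul_formula, D.mul_formula, tw_zero] at h
      have := congrArg Prod.fst (D.uniq h).1
      simpa [tw_apply, pair_single] using this.symm
    subst hw
    have ha : a.2 = 0 := by
      funext i
      have h := hc _ ⟨0, Pi.single i 1, rfl⟩
      rw [D.mul_formula, D.mul_formula, tw_zero] at h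
      have := congrArg Prod.fst (D.uniq h).1
      simpa [tw_apply, pair, Pi.single_apply] using this
    rw [tw_zero, map_one, mul_one, show a = ((a.1, 0) : W n) from Prod.ext rfl ha]
    exact hcases _
  · refine ⟨D.u ((0 : ZMod 2), Pi.single ⟨0, hn⟩ 1), ⟨_, 0, by rw [tw_zero, map_one, mul_one]⟩,
      D.m (tw (Pi.single ⟨0, hn⟩ 1)), ⟨0, _, by rw [D.u_zero, one_mul]⟩, fun h => ?_⟩
    have h' : D.m (tw (Pi.single ⟨0, hn⟩ 1)) * D.u ((0 : ZMod 2), Pi.single ⟨0, hn⟩ 1) *
        (D.m (tw (Pi.single ⟨0, hn⟩ 1)))⁻¹ = D.u ((0 : ZMod 2), Pi.single ⟨0, hn⟩ 1) := by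
      rw [← h]; group
    rw [D.conj] at h'
    have := congrArg Prod.fst (D.u_inj h')
    simp [tw_apply, pair_single] at this

theorem centralizer_qsub [Finite G] (hn : 1 ≤ n) :
    Subgroup.centralizer (D.qsub : Set G) = (Subgroup.center ↥D.qsub).map D.qsub.subtype := by
  have hE := D.extraAt_qsub hn
  refine le_antisymm (fun x hx => ?_) ?_
  · obtain ⟨a, g, rfl⟩ := D.gen x
    have hg : g = 1 := by
      apply LinearEquiv.ext
      intro b
      have h := Subgroup.mem_centralizer_iff.mp hx (D.u b) ⟨b, 0, by rw [tw_zero, map_one, mul_one]⟩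
      have h2 : D.u a * D.m g * D.u b = D.u (a + g b) * D.m g := by
        have := D.mul_formula a b g 1
        rwa [map_one, mul_one, mul_one] at this
      rw [h2, ← mul_assoc, ← D.u_add] at h
      exact add_left_cancel ((D.uniq h).1.symm.trans (add_comm b a))
    subst hg
    rw [hE.centre, hE.mem_zpowers_z]
    exact hE.central_cases ⟨a, 0, by rw [tw_zero]⟩ fun q hq => Subgroup.mem_centralizer_iff.mp hx q hq
  · rw [hE.centre, Subgroup.zpowers_le, Subgroup.mem_centralizer_iff]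
    exact fun q hq => hE.comm_z hq

theorem qsub_le : D.qsub ≤ Subgroup.centralizer ({D.zz} : Set G) := by
  rintro _ ⟨a, w, rfl⟩
  rw [Subgroup.mem_centralizer_singleton_iff]
  exact (D.comm_zz_iff a (tw w)).mpr (isTw_tw w).1

theorem centralizer_le_normalizer : Subgroup.centralizer ({D.zz} : Set G) ≤ Subgroup.normalizer (D.qsub : Set G) := by
  have key : ∀ x ∈ Subgroup.centralizer ({D.zz} : Set G), ∀ q ∈ D.qsub, x * q * x⁻¹ ∈ D.qsub := by
    intro x hx q hq
    obtain ⟨a, g, rfl⟩ := D.gen x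
    have hg : g (pt n) = pt n := (D.comm_zz_iff a g).mp (Subgroup.mem_centralizer_singleton_iff.mp hx)
    obtain ⟨b, w, rfl⟩ := hq
    obtain ⟨v, hv⟩ := (isTw_conj hg (isTw_tw w)).eq_tw
    have hu : ∀ c, D.u c ∈ D.qsub := fun c => ⟨c, 0, by rw [tw_zero, map_one, mul_one]⟩
    have : D.u a * D.m g * (D.u b * D.m (tw w)) * (D.u a * D.m g)⁻¹ =
        D.u a * (D.u (g b) * D.m (g * tw w * g⁻¹)) * D.u a := by
      rw [← D.conj g b, map_mul, map_mul, map_inv, mul_inv_rev, D.u_inv]
      group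
    rw [this, hv]
    exact mul_mem (mul_mem (hu a) ⟨_, _, rfl⟩) (hu a)
  intro x hx
  rw [Subgroup.mem_normalizer_iff]
  refine fun q => ⟨key x hx q, fun h => ?_⟩
  have := key x⁻¹ (inv_mem hx) _ h
  simpa [mul_assoc] using this

/-- The complement `GL(n, 2)`. -/
def ksub : Subgroup G := (D.m.comp kk).range

theorem ksub_facts : D.ksub ≤ Subgroup.centralizer ({D.zz} : Set G) ∧ D.qsub ⊓ D.ksub = ⊥ ∧
    D.qsub ⊔ D.ksub = Subgroup.centralizer ({D.zz} : Set G) ∧
    Nonempty (D.ksub ≃* Matrix.GeneralLinearGroup (Fin n) (ZMod 2)) := by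
  have hK : D.ksub ≤ Subgroup.centralizer ({D.zz} : Set G) := by
    rintro _ ⟨A, rfl⟩
    rw [Subgroup.mem_centralizer_singleton_iff]
    have := (D.comm_zz_iff 0 (kk A)).mpr (kk_fix A)
    rwa [D.u_zero, one_mul] at this
  have hbot : ∀ A, D.m (kk A) ∈ D.qsub → A = 1 := by
    rintro A ⟨a, w, h⟩
    refine kk_eq_one_of_isTw ?_
    have := (D.uniq (a := 0) (b := a) (g := kk A) (h := tw w) (by rw [D.u_zero, one_mul]; exact h)).2
    rw [this]; exact isTw_tw w
  refine ⟨hK, ?_, le_antisymm (sup_le D.qsub_le hK) fun x hx => ?_, ⟨(MonoidHom.ofInjective ?_).symm⟩⟩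
  · rw [eq_bot_iff]
    rintro _ ⟨hq, A, rfl⟩
    rw [hbot A hq, map_one]; exact one_mem _
  · obtain ⟨a, g, rfl⟩ := D.gen x
    obtain ⟨w, A, rfl⟩ := fix_decomp ((D.comm_zz_iff a g).mp (Subgroup.mem_centralizer_singleton_iff.mp hx))
    rw [map_mul, ← mul_assoc]
    exact mul_mem (Subgroup.mem_sup_left ⟨a, w, rfl⟩) (Subgroup.mem_sup_right ⟨A, rfl⟩)
  · rw [injective_iff_map_eq_one]
    intro A hA
    exact hbot A (by rw [show D.m (kk A) = 1 from hA]; exact one_mem _)

theorem pCore_eq [Finite G] :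
    (pCore 2 ↥(Subgroup.centralizer ({D.zz} : Set G))).map (Subgroup.centralizer ({D.zz} : Set G)).subtype =
      D.qsub := by
  haveI : Fact (Nat.Prime 2) := ⟨Nat.prime_two⟩
  set C := Subgroup.centralizer ({D.zz} : Set G) with hC
  haveI hnor : (D.qsub.subgroupOf C).Normal := Subgroup.normal_subgroupOf_iff_le_normalizer D.qsub_le |>.mpr D.centralizer_le_normalizer
  have hqp : IsPGroup 2 (D.qsub.subgroupOf C) :=
    ((IsPGroup.iff_card).mpr ⟨_, D.card_qsub⟩).of_equiv (Subgroup.subgroupOfEquivOfLe D.qsub_le).symm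
  -- the quotient is `GL(n, 2)`
  obtain ⟨hK, hinf, hsup, -⟩ := D.ksub_facts
  let f : Matrix.GeneralLinearGroup (Fin n) (ZMod 2) →* ↥C ⧸ D.qsub.subgroupOf C :=
    (QuotientGroup.mk' _).comp ((D.m.comp kk).codRestrict C fun A => hK ⟨A, rfl⟩)
  have hfs : Function.Surjective f := by
    intro q
    obtain ⟨⟨x, hx⟩, rfl⟩ := QuotientGroup.mk_surjective q
    obtain ⟨a, g, rfl⟩ := D.gen x
    obtain ⟨w, A, rfl⟩ := fix_decomp ((D.comm_zz_iff a g).mp (Subgroup.mem_centralizer_singleton_iff.mp hx))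
    refine ⟨A, QuotientGroup.eq.mpr ?_⟩
    show (D.m (kk A))⁻¹ * (D.u a * D.m (tw w * kk A)) ∈ D.qsub
    have hq : D.u a * D.m (tw w) ∈ D.qsub := ⟨a, w, rfl⟩
    have := (Subgroup.mem_normalizer_iff.mp (D.centralizer_le_normalizer (inv_mem (hK ⟨A, rfl⟩))) _).mp hq
    rw [map_mul, ← mul_assoc (D.u a)]
    simpa [mul_assoc] using this
  have hfi : Function.Injective f := by
    rw [injective_iff_map_eq_one]
    intro A hA
    have h := (QuotientGroup.eq_one_iff _).mp hA
    have : D.m (kk A) ∈ D.qsub ⊓ D.ksub := ⟨h, A, rfl⟩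
    rw [hinf, Subgroup.mem_bot] at this
    exact kk_eq_one_of_isTw (by rw [D.m_inj (this.trans (map_one D.m).symm)]; exact ⟨rfl, fun _ => rfl⟩)
  let eqv := MulEquiv.ofBijective f ⟨hfi, hfs⟩
  have hpc : pCore 2 C ≤ D.qsub.subgroupOf C := by
    haveI := CfsgLib.LargeExtra.pCore_normal' 2 C
    have hR := twoGroup_normal_GL (((pCore 2 C).map (QuotientGroup.mk' _)).map eqv.symm.toMonoidHom)
      ((Subgroup.Normal.map inferInstance _ (QuotientGroup.mk'_surjective _)).map _ eqv.symm.surjective)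
      (((CfsgLib.LargeExtra.pCore_isPGroup' 2 C).map _).map _)
    rw [Subgroup.map_eq_bot_iff_of_injective _ eqv.symm.injective, Subgroup.map_eq_bot_iff,
      QuotientGroup.ker_mk'] at hR
    exact hR
  have hle : D.qsub.subgroupOf C ≤ pCore 2 C := le_sSup ⟨hnor, hqp⟩
  rw [le_antisymm hpc hle, Subgroup.map_subgroupOf_eq_of_le D.qsub_le]

theorem exists_elementaryAbelian [Finite G] :
    ∃ E : Subgroup G, E ≤ D.qsub ∧ IsElementaryAbelian 2 E ∧ Nat.card ↥E = 2 ^ (n + 1) := by
  let f : Multiplicative (W n) →* G := MonoidHom.mk' (fun a => D.u a.toAdd) fun a b => D.u_add _ _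
  refine ⟨f.range, ?_, ⟨⟨⟨fun a b => ?_⟩⟩, ?_⟩, ?_⟩
  · rintro _ ⟨a, rfl⟩
    exact ⟨a.toAdd, 0, by rw [tw_zero, map_one, mul_one]; rfl⟩
  · obtain ⟨_, a, rfl⟩ := a
    obtain ⟨_, b, rfl⟩ := b
    exact Subtype.ext (by show f a * f b = f b * f a; rw [← map_mul, ← map_mul, mul_comm])
  · rintro _ ⟨a, rfl⟩
    rw [sq]; exact D.u_sq _
  · have hf : Function.Injective f := fun a b h => Multiplicative.toAdd.injective (D.u_inj h)
    rw [← Nat.card_congr (MonoidHom.ofInjective hf).toEquiv]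
    show Nat.card (W n) = _
    rw [Nat.card_prod, Nat.card_fun, Nat.card_zmod, Nat.card_fin, pow_succ']

end Model

end CfsgLib.LargeExtra.Holo
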