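import Mathlib
import Cfsg.Agent.Lib.LargeExtra.Holo
import Cfsg.Agent.S5420

/-! Building the model from a split extension of an elementary abelian group by its automorphism group. -/

set_option autoImplicit false

namespace CfsgLib.LargeExtra.Holo

open Cfsg

theorem exists_equiv_pt {V : Type*} [AddCommGroup V] [Module (ZMod 2) V] [Finite V] {n : ℕ}
    (hcard : Nat.card V = 2 ^ (n + 1)) {v : V} (hv : v ≠ 0) :
    ∃ φ : W n ≃ₗ[ZMod 2] V, φ (pt n) = v := by
  obtain ⟨K, hK⟩ := Submodule.exists_isCompl (Submodule.span (ZMod 2) {v})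
  have hfin : Module.finrank (ZMod 2) V = n + 1 := by
    have := Module.natCard_eq_pow_finrank (K := ZMod 2) (V := V)
    rw [hcard, Nat.card_zmod] at this
    exact Nat.pow_right_injective le_rfl this.symm
  have hKfin : Module.finrank (ZMod 2) K = n := by
    have := Submodule.finrank_add_eq_of_isCompl hK
    rw [finrank_span_singleton hv, hfin] at this
    omega
  let e1 : (ZMod 2) ≃ₗ[ZMod 2] Submodule.span (ZMod 2) {v} := LinearEquiv.toSpanNonzeroSingleton (ZMod 2) V v hv
  let e2 : (Fin n → ZMod 2) ≃ₗ[ZMod 2] K := (LinearEquiv.ofFinrankEq K (Fin n → ZMod 2) (by simp [hKfin])).symm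
  refine ⟨(e1.prodCongr e2).trans (Submodule.prodEquivOfIsCompl _ _ hK), ?_⟩
  rw [LinearEquiv.trans_apply, LinearEquiv.prodCongr_apply]
  simp [pt, e1, LinearEquiv.toSpanNonzeroSingleton_one]

theorem exists_model {G : Type*} [Group G] [Finite G] (n : ℕ) (U M : Subgroup G) [U.Normal]
    (hU : IsElementaryAbelian 2 U) (hUcard : Nat.card ↥U = 2 ^ (n + 1)) (hUM : U ⊓ M = ⊥) (hUM' : U ⊔ M = ⊤)
    (hfaith : ∀ m ∈ M, (∀ u ∈ U, m * u * m⁻¹ = u) → m = 1)
    (hfull : ∀ φ : ↥U ≃* ↥U, ∃ m ∈ M, ∀ u : ↥U, ((φ u : ↥U) : G) = m * u * m⁻¹)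
    {z : G} (hzU : z ∈ U) (hz1 : z ≠ 1) : ∃ D : Model G n, D.zz = z ∧ ∀ a, D.u a ∈ U := by
  classical
  letI : CommGroup U := { (inferInstance : Group U) with mul_comm := hU.1.is_comm.comm }
  have hsq : ∀ x : Additive U, 2 • x = 0 := fun x => by
    apply Additive.toMul.injective
    apply Subtype.ext
    exact hU.2 _ (Additive.toMul x).2
  letI : Module (ZMod 2) (Additive U) := AddCommGroup.zmodModule hsq
  obtain ⟨φ, hφ⟩ := exists_equiv_pt (V := Additive U) (n := n)
    ((Nat.card_congr Additive.toMul).trans hUcard) (v := Additive.ofMul ⟨z, hzU⟩)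
    (fun e => hz1 (congrArg (fun x : Additive U => ((Additive.toMul x : U) : G)) e))
  let u : W n → G := fun a => ((Additive.toMul (φ a) : U) : G)
  have hu : ∀ a, u a ∈ U := fun a => (Additive.toMul (φ a) : U).2
  have hsurj : ∀ x ∈ U, ∃ a, u a = x := fun x hx => ⟨φ.symm (Additive.ofMul ⟨x, hx⟩), by simp [u]⟩
  let aut : AutW n → (U ≃* U) := fun g =>
    { toFun := fun x => Additive.toMul ((φ.symm.trans (g.trans φ)) (Additive.ofMul x))
      invFun := fun x => Additive.toMul ((φ.symm.trans (g.trans φ)).symm (Additive.ofMul x))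
      left_inv := fun x => by
        dsimp only
        rw [ofMul_toMul, LinearEquiv.symm_apply_apply, toMul_ofMul]
      right_inv := fun x => by
        dsimp only
        rw [ofMul_toMul, LinearEquiv.apply_symm_apply, toMul_ofMul]
      map_mul' := fun x y => by
        rw [ofMul_mul, map_add, toMul_add] }
  have haut : ∀ g a, ((aut g (Additive.toMul (φ a)) : U) : G) = u (g a) := fun g a => by
    show ((Additive.toMul (φ (g (φ.symm (φ a)))) : U) : G) = _
    rw [LinearEquiv.symm_apply_apply]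
  choose mf hmf hconj using fun g : AutW n => hfull (aut g)
  have hconj' : ∀ g a, mf g * u a * (mf g)⁻¹ = u (g a) := fun g a => by
    rw [← haut g a, hconj g]
  have uniq : ∀ x ∈ M, ∀ y ∈ M, (∀ a, x * u a * x⁻¹ = y * u a * y⁻¹) → x = y := by
    intro x hx y hy h
    refine (inv_mul_eq_one.mp (hfaith _ (mul_mem (inv_mem hy) hx) fun v hv => ?_)).symm
    obtain ⟨a, rfl⟩ := hsurj v hv
    calc y⁻¹ * x * u a * (y⁻¹ * x)⁻¹ = y⁻¹ * (x * u a * x⁻¹) * y := by group
      _ = u a := by rw [h a]; group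
  let mh : AutW n →* G := MonoidHom.mk' mf fun g h => uniq _ (hmf _) _ (mul_mem (hmf _) (hmf _)) fun a => by
    rw [hconj']
    calc u ((g * h) a) = mf g * (mf h * u a * (mf h)⁻¹) * (mf g)⁻¹ := by rw [hconj', hconj']; rfl
      _ = _ := by group
  have uadd : ∀ a b, u (a + b) = u a * u b := fun a b => by
    show ((Additive.toMul (φ (a + b)) : U) : G) = _
    rw [map_add]
    rfl
  have uinj : Function.Injective u := fun a b h =>
    φ.injective (Additive.toMul.injective (Subtype.ext h))
  have hg1 : ∀ g : AutW n, mf g = 1 → g = 1 := fun g hg => LinearEquiv.ext fun a => by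
    have := hconj' g a
    rw [hg, one_mul, inv_one, mul_one] at this
    exact (uinj this).symm
  have hmsurj : ∀ x ∈ M, ∃ g, mf g = x := by
    intro x hx
    have hcl : ∀ v ∈ U, x * v * x⁻¹ ∈ U := fun v hv => Subgroup.Normal.conj_mem ‹_› v hv x
    let ρ : AutW n :=
      φ.trans ((({ toFun := fun v => Additive.ofMul ⟨x * ((Additive.toMul v : U) : G) * x⁻¹, hcl _ (Additive.toMul v : U).2⟩
                   invFun := fun v => Additive.ofMul ⟨x⁻¹ * ((Additive.toMul v : U) : G) * x,
                     by simpa using Subgroup.Normal.conj_mem ‹_› _ (Additive.toMul v : U).2 x⁻¹⟩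
                   left_inv := fun v => Additive.toMul.injective (Subtype.ext (by simp [mul_assoc]))
                   right_inv := fun v => Additive.toMul.injective (Subtype.ext (by simp [mul_assoc]))
                   map_add' := fun v w => Additive.toMul.injective (Subtype.ext (by simp [mul_assoc])) } :
        Additive U ≃+ Additive U).toLinearEquiv (fun c v => ?_)).trans φ.symm)
    · refine ⟨ρ, uniq _ (hmf ρ) _ hx fun a => ?_⟩
      rw [hconj']
      simp [ρ, u]
    · rcases two_cases c with rfl | rfl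
      · simp only [zero_smul]; exact map_zero _
      · simp only [one_smul]
  refine ⟨⟨u, mh, uadd, uinj, fun g h e => ?_, fun g a => hconj' g a, fun g a e => ?_, fun x => ?_⟩, ?_, hu⟩
  · have : mh (g * h⁻¹) = 1 := by rw [map_mul, map_inv, e, mul_inv_cancel]
    exact mul_inv_eq_one.mp (hg1 _ this)
  · refine hg1 g ?_
    have : mf g ∈ U ⊓ M := ⟨(show mf g = u a from e) ▸ hu a, hmf g⟩
    rwa [hUM, Subgroup.mem_bot] at this
  · have hx : x ∈ U ⊔ M := hUM' ▸ Subgroup.mem_top x
    rw [← SetLike.mem_coe, Subgroup.normal_mul] at hx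
    obtain ⟨v, hv, y, hy, rfl⟩ := hx
    obtain ⟨a, rfl⟩ := hsurj v hv
    obtain ⟨g, rfl⟩ := hmsurj y hy
    exact ⟨a, g, rfl⟩
  · show ((Additive.toMul (φ (pt n)) : U) : G) = z
    rw [hφ]
    rfl

end CfsgLib.LargeExtra.Holo
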