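import Mathlib
import Cfsg.Prelude.Def_MonsterType
import Cfsg.Agent.Lib.LargeExtra.Decomp

/-! Normal subgroups of a group with a large extraspecial 2-subgroup. -/

set_option autoImplicit false

namespace CfsgLib.LargeExtra

open Cfsg

variable {G : Type*} [Group G] [Finite G] {Q : Subgroup G} {z : G}

/-- A non-trivial normal subgroup contains `z` or else has odd order and is inverted by `z`. -/
theorem z_mem_of_normal (h : ExtraAt Q z) (hlarge : IsLargeExtraspecial Q) (N : Subgroup G) [hN : N.Normal]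
    (hne : N ≠ ⊥) : z ∈ N := by
  by_contra hzN
  -- `N ∩ Q` is trivial
  have hQN : ∀ x ∈ N, x ∈ Q → x = 1 := by
    intro x hx hxQ
    by_contra hx1
    by_cases hxz : x = z
    · exact hzN (hxz ▸ hx)
    · obtain ⟨y, hy, hyx⟩ := h.exists_conj_eq hxQ hx1 hxz
      have := mul_mem (hN.conj_mem x hx y) (inv_mem hx)
      rw [hyx, mul_inv_cancel_right] at this
      exact hzN this
  have hfix : ∀ x ∈ N, z * x = x * z → x = 1 := by
    intro x hx hxz
    have hxC : x ∈ Subgroup.centralizer (((Subgroup.center ↥Q).map Q.subtype : Subgroup G) : Set G) := by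
      rw [h.centre, Subgroup.mem_centralizer_iff]
      intro t ht
      obtain ⟨n, rfl⟩ := Subgroup.mem_zpowers_iff.mp ht
      exact (Commute.zpow_left hxz n).eq
    have hxn := hlarge.2.2.1 hxC
    have hcent : x ∈ Subgroup.centralizer (Q : Set G) := by
      refine Subgroup.mem_centralizer_iff.mpr fun q hq => ?_
      have h1 : q * x * q⁻¹ * x⁻¹ ∈ N := mul_mem (hN.conj_mem x hx q) (inv_mem hx)
      have h2 : q * x * q⁻¹ * x⁻¹ ∈ Q := by
        have := mul_mem hq ((Subgroup.mem_normalizer_iff.mp hxn _).mp (inv_mem hq))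
        simpa [mul_assoc] using this
      exact mul_inv_eq_iff_eq_mul.mp (mul_inv_eq_one.mp (hQN _ h1 h2))
    rw [hlarge.2.1] at hcent
    obtain ⟨c, -, hc⟩ := hcent
    exact hQN x hx (hc ▸ c.2)
  have hodd : Odd (Nat.card N) := by
    by_contra hev
    have h2 : 2 ∣ Nat.card N := even_iff_two_dvd.mp (Nat.not_odd_iff_even.mp hev)
    -- the involution `z` permutes the elements of order two of `N`
    let σ : N → N := fun x => ⟨z * x * z, by simpa [h.inv_eq] using hN.conj_mem x x.2 z⟩
    have hσ : ∀ x, σ (σ x) = x := fun x => Subtype.ext (by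
      show z * (z * x * z) * z = x
      rw [show z * (z * (x : G) * z) * z = (z * z) * x * (z * z) by group, h.sq_one]; group)
    classical
    letI := Fintype.ofFinite N
    have hcard : 2 ∣ (Finset.univ.erase (1 : N)).card := by
      refine (CharP.cast_eq_zero_iff (ZMod 2) 2 _).mp ?_
      rw [Finset.cast_card]
      refine Finset.sum_involution (fun x _ => σ x) (fun x _ => CharTwo.add_self_eq_zero _)
        (fun x hx _ e => ?_) (fun x hx => ?_) (fun x _ => hσ x)
      · have e' : z * (x : G) * z = x := congrArg Subtype.val e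
        refine Finset.ne_of_mem_erase hx (Subtype.ext (hfix x x.2 ?_))
        calc z * (x : G) = (z * x * z) * z⁻¹ := by group
          _ = x * z := by rw [e', h.inv_eq]
      · refine Finset.mem_erase.mpr ⟨fun e => Finset.ne_of_mem_erase hx ?_, Finset.mem_univ _⟩
        rw [← hσ x, e]
        exact Subtype.ext (show z * ((1 : N) : G) * z = ((1 : N) : G) by
          rw [Subgroup.coe_one, mul_one, h.sq_one])
    rw [Finset.card_erase_of_mem (Finset.mem_univ _), Finset.card_univ, ← Nat.card_eq_fintype_card] at hcard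
    have hpos := Nat.card_pos (α := N)
    omega
  refine hne (hlarge.2.2.2 N hodd ?_)
  rw [Subgroup.normalizer_eq_top]
  exact le_top

/-- A normal subgroup containing `Q` together with `N(Q)` is everything. -/
theorem sup_normalizer_eq_top (h : ExtraAt Q z) (hlarge : IsLargeExtraspecial Q) (L : Subgroup G) [L.Normal]
    (hQL : Q ≤ L) : L ⊔ Subgroup.centralizer ({z} : Set G) = ⊤ := by
  haveI : Fact (Nat.Prime 2) := ⟨Nat.prime_two⟩
  have hQp : IsPGroup 2 (Q.subgroupOf L) := h.extra.1.1.of_equiv (Subgroup.subgroupOfEquivOfLe hQL).symm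
  obtain ⟨T, hT⟩ := hQp.exists_le_sylow
  set T' := (T : Subgroup L).map L.subtype with hT'
  have hQT : Q ≤ T' := fun q hq => ⟨⟨q, hQL hq⟩, hT (by simpa [Subgroup.mem_subgroupOf] using hq), rfl⟩
  have hcent : ∀ x ∈ T', (∀ t ∈ T', t * x = x * t) → x = 1 ∨ x = z := by
    intro x _ hc
    have hx : x ∈ Subgroup.centralizer (Q : Set G) :=
      Subgroup.mem_centralizer_iff.mpr fun q hq => hc q (hQT hq)
    rw [hlarge.2.1, h.centre] at hx
    exact h.mem_zpowers_z.mp hx
  haveI : Nontrivial T := ⟨⟨⟨⟨z, hQL h.z_mem⟩, hT (by simpa [Subgroup.mem_subgroupOf] using h.z_mem)⟩, 1,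
    fun e => h.ne_one (congrArg (fun x : T => ((x : L) : G)) e)⟩⟩
  haveI : Nontrivial (Subgroup.center T) := T.isPGroup'.center_nontrivial
  obtain ⟨c, hc⟩ := exists_ne (1 : Subgroup.center T)
  have hcc : ∀ t ∈ T', t * (((c : T) : L) : G) = (((c : T) : L) : G) * t := by
    rintro _ ⟨t, ht, rfl⟩
    exact congrArg (fun x : T => ((x : L) : G)) (Subgroup.mem_center_iff.mp c.2 ⟨t, ht⟩)
  have hcT : (((c : T) : L) : G) ∈ T' := ⟨_, (c : T).2, rfl⟩
  have hcz : (((c : T) : L) : G) = z := by
    rcases hcent _ hcT hcc with e | e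
    · exact absurd (Subtype.ext (Subtype.ext (Subtype.ext e))) hc
    · exact e
  rw [hcz] at hcT hcc
  have hN : Subgroup.normalizer (T' : Set G) ≤ Subgroup.centralizer ({z} : Set G) := by
    intro g hg
    rw [Subgroup.mem_centralizer_singleton_iff]
    have hcomm : ∀ t ∈ T', t * (g * z * g⁻¹) = g * z * g⁻¹ * t := by
      intro t ht
      have ht' : g⁻¹ * t * g ∈ T' := by simpa using (Subgroup.mem_normalizer_iff.mp (inv_mem hg) t).mp ht
      have e := hcc _ ht'
      calc t * (g * z * g⁻¹) = g * (g⁻¹ * t * g * z) * g⁻¹ := by group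
        _ = g * (z * (g⁻¹ * t * g)) * g⁻¹ := by rw [e]
        _ = g * z * g⁻¹ * t := by group
    rcases hcent _ ((Subgroup.mem_normalizer_iff.mp hg z).mp hcT) hcomm with e | e
    · exact absurd (conj_eq_one_iff.mp e) h.ne_one
    · exact mul_inv_eq_iff_eq_mul.mp e
  rw [eq_top_iff]
  refine le_trans ?_ (sup_le_sup_left hN L)
  rw [sup_comm, Sylow.normalizer_sup_eq_top]

end CfsgLib.LargeExtra
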