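import Mathlib
import Cfsg.Prelude.Def_MonsterType
import Cfsg.Agent.Lib.LargeExtra.PairX

/-! Entering the pair setting from a large extraspecial subgroup. -/

set_option autoImplicit false

namespace CfsgLib.LargeExtra

open Cfsg

theorem pairAt_of_large {G : Type*} [Group G] [Finite G] {Q : Subgroup G} (hQ : IsLargeExtraspecial Q) {z : G}
    (hz : (Subgroup.center ↥Q).map Q.subtype = Subgroup.zpowers z) (hz2 : orderOf z = 2) {g : G}
    (hgH : g ∉ Subgroup.centralizer ({z} : Set G)) (hgQ : g * z * g⁻¹ ∈ Q) : PairAt Q z g := by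
  refine ⟨⟨hQ.1, hz2, hz⟩, hQ.2.1, ?_, hgQ, fun e => hgH ?_⟩
  · refine le_trans ?_ hQ.2.2.1
    intro x hx
    rw [Subgroup.mem_centralizer_singleton_iff] at hx
    rw [hz, Subgroup.mem_centralizer_iff]
    intro t ht
    obtain ⟨n, rfl⟩ := Subgroup.mem_zpowers_iff.mp ht
    exact (Commute.zpow_left hx.symm n).eq
  · rw [Subgroup.mem_centralizer_singleton_iff]
    exact mul_inv_eq_iff_eq_mul.mp e

theorem thirty_two_le {G : Type*} [Group G] {Q : Subgroup G} {w : ℕ} (hw : 2 ≤ w)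
    (hcard : Nat.card ↥Q = 2 ^ (2 * w + 1)) : 32 ≤ Nat.card ↥Q := by
  rw [hcard]
  calc 32 = 2 ^ 5 := by norm_num
    _ ≤ 2 ^ (2 * w + 1) := Nat.pow_le_pow_right (by norm_num) (by omega)

end CfsgLib.LargeExtra
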