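import Mathlib
import Cfsg.Agent.Lib.LargeExtra.Holo
import Cfsg.Agent.Lib.PCore.Basic

/-! The point stabilizer of `SL(n+2, 2)` as a copy of `W ⋊ GL(W)`. -/

set_option autoImplicit false

namespace CfsgLib.LargeExtra.Holo

open Cfsg

variable {n : ℕ}

/-- The big index type. -/
abbrev SLn (n : ℕ) : Type := Matrix.SpecialLinearGroup (Fin (n + 2)) (ZMod 2)

/-- Coordinates on `W`. -/
def co : W n ≃ₗ[ZMod 2] (Fin (n + 1) → ZMod 2) where
  toFun a := Fin.cons a.1 a.2
  invFun v := (v 0, Fin.tail v)
  left_inv a := by simp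
  right_inv v := Fin.cons_self_tail v
  map_add' a b := by
    funext i
    refine Fin.cases ?_ (fun j => ?_) i <;> simp
  map_smul' c a := by
    funext i
    refine Fin.cases ?_ (fun j => ?_) i <;> simp

theorem co_apply (a : W n) : co a = Fin.cons a.1 a.2 := rfl

/-- The matrix with first row `(1, a)` and lower block `B`. -/
def blk (a : Fin (n + 1) → ZMod 2) (B : Matrix (Fin (n + 1)) (Fin (n + 1)) (ZMod 2)) :
    Matrix (Fin (n + 2)) (Fin (n + 2)) (ZMod 2) :=
  Matrix.of (Fin.cons (Fin.cons 1 a) fun i => Fin.cons 0 (B i))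

theorem blk_mul (a a' : Fin (n + 1) → ZMod 2) (B B' : Matrix (Fin (n + 1)) (Fin (n + 1)) (ZMod 2)) :
    blk a B * blk a' B' = blk (a' + Matrix.vecMul a B') (B * B') := by
  ext i k
  refine Fin.cases ?_ (fun i' => ?_) i <;> refine Fin.cases ?_ (fun k' => ?_) k <;>
    simp [blk, Matrix.mul_apply, Fin.sum_univ_succ, Matrix.vecMul, dotProduct]

theorem blk_one : blk (0 : Fin (n + 1) → ZMod 2) 1 = 1 := by
  ext i k
  refine Fin.cases ?_ (fun i' => ?_) i <;> refine Fin.cases ?_ (fun k' => ?_) k <;>
    simp [blk, Matrix.one_apply, Fin.succ_ne_zero, (Fin.succ_ne_zero _).symm]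

theorem blk_inj {a a' : Fin (n + 1) → ZMod 2} {B B' : Matrix (Fin (n + 1)) (Fin (n + 1)) (ZMod 2)}
    (h : blk a B = blk a' B') : a = a' ∧ B = B' := by
  constructor
  · funext k
    simpa [blk] using congrFun (congrFun h 0) k.succ
  · ext i k
    simpa [blk] using congrFun (congrFun h i.succ) k.succ

/-- An invertible matrix over `F₂` as an element of the special linear group. -/
def mkSL (A A' : Matrix (Fin (n + 2)) (Fin (n + 2)) (ZMod 2)) (h : A * A' = 1) : SLn n :=
  ⟨A, by
    have hd := congrArg Matrix.det h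
    rw [Matrix.det_mul, Matrix.det_one] at hd
    rcases two_cases A.det with e | e
    · rw [e, zero_mul] at hd; exact absurd hd zero_ne_one
    · exact e⟩

/-- The lower block belonging to an automorphism of `W`. -/
def blockB (g : AutW n) : Matrix (Fin (n + 1)) (Fin (n + 1)) (ZMod 2) :=
  (LinearMap.toMatrix' (co.toLinearMap.comp (g.symm.toLinearMap.comp co.symm.toLinearMap))).transpose

theorem blockB_mul (g h : AutW n) : blockB (g * h) = blockB g * blockB h := by
  unfold blockB
  rw [← Matrix.transpose_mul, ← LinearMap.toMatrix'_comp]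
  rfl

theorem blockB_one : blockB (1 : AutW n) = 1 := by
  unfold blockB
  rw [show co.toLinearMap.comp ((1 : AutW n).symm.toLinearMap.comp co.symm.toLinearMap) = LinearMap.id from
    LinearMap.ext fun v => by show co (co.symm v) = v; rw [LinearEquiv.apply_symm_apply]]
  rw [LinearMap.toMatrix'_id, Matrix.transpose_one]

theorem vecMul_blockB (g : AutW n) (a : W n) : Matrix.vecMul (co a) (blockB g⁻¹) = co (g a) := by
  rw [blockB, Matrix.vecMul_transpose, LinearMap.toMatrix'_mulVec]
  show co ((g⁻¹).symm (co.symm (co a))) = _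
  rw [LinearEquiv.symm_apply_apply]
  rfl

theorem blockB_inj {g h : AutW n} (e : blockB g = blockB h) : g = h := by
  have hv : ∀ v, g.symm v = h.symm v := fun v => by
    have := congrArg (fun M => Matrix.vecMul (co v) M) e
    simp only [blockB, Matrix.vecMul_transpose, LinearMap.toMatrix'_mulVec] at this
    have := co.injective this
    simpa using this
  apply LinearEquiv.ext
  intro x
  have := hv (g x)
  rw [LinearEquiv.symm_apply_apply] at this
  conv_rhs => rw [this, LinearEquiv.apply_symm_apply]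

/-- Translations. -/
def uSL (a : W n) : SLn n := mkSL (blk (co a) 1) (blk (co a) 1) (by
  rw [blk_mul, Matrix.vecMul_one, mul_one, ← map_add, add_self_W, map_zero, blk_one])

/-- The linear part. -/
def mSL : AutW n →* SLn n :=
  MonoidHom.mk' (fun g => mkSL (blk 0 (blockB g)) (blk 0 (blockB g⁻¹))
    (by rw [blk_mul, Matrix.zero_vecMul, add_zero, ← blockB_mul, mul_inv_cancel, blockB_one, blk_one]))
    fun g h => by
      apply Subtype.ext
      show blk 0 (blockB (g * h)) = blk 0 (blockB g) * blk 0 (blockB h)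
      rw [blk_mul, Matrix.zero_vecMul, add_zero, blockB_mul]

theorem uSL_val (a : W n) : (uSL a : Matrix (Fin (n + 2)) (Fin (n + 2)) (ZMod 2)) = blk (co a) 1 := rfl

theorem mSL_val (g : AutW n) : (mSL g : Matrix (Fin (n + 2)) (Fin (n + 2)) (ZMod 2)) = blk 0 (blockB g) := rfl

/-- The stabilizer of the first basis vector. -/
def pstab (n : ℕ) : Subgroup (SLn n) where
  carrier := {x | (x : Matrix (Fin (n + 2)) (Fin (n + 2)) (ZMod 2)).mulVec (Pi.single 0 1) = Pi.single 0 1}
  one_mem' := Matrix.one_mulVec _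
  mul_mem' := fun {x y} hx hy => by
    show Matrix.mulVec ((x * y : SLn n) : Matrix (Fin (n + 2)) (Fin (n + 2)) (ZMod 2)) _ = _
    rw [Matrix.SpecialLinearGroup.coe_mul, ← Matrix.mulVec_mulVec]
    exact (congrArg _ hy).trans hx
  inv_mem' := fun {x} hx => by
    show Matrix.mulVec ((x⁻¹ : SLn n) : Matrix (Fin (n + 2)) (Fin (n + 2)) (ZMod 2)) _ = _
    conv_lhs => arg 2; rw [← (show Matrix.mulVec _ _ = _ from hx)]
    rw [Matrix.mulVec_mulVec, ← Matrix.SpecialLinearGroup.coe_mul, inv_mul_cancel,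
      Matrix.SpecialLinearGroup.coe_one, Matrix.one_mulVec]

theorem mem_pstab {x : SLn n} : x ∈ pstab n ↔
    (x : Matrix (Fin (n + 2)) (Fin (n + 2)) (ZMod 2)) 0 0 = 1 ∧
      ∀ i : Fin (n + 1), (x : Matrix (Fin (n + 2)) (Fin (n + 2)) (ZMod 2)) i.succ 0 = 0 := by
  show Matrix.mulVec _ (Pi.single 0 1) = Pi.single 0 1 ↔ _
  rw [Matrix.mulVec_single_one, funext_iff, Fin.forall_fin_succ]
  simp [Matrix.col_apply]

theorem eq_blk {x : SLn n} (hx : x ∈ pstab n) : ∃ a B, (x : Matrix (Fin (n + 2)) (Fin (n + 2)) (ZMod 2)) = blk a B := by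
  refine ⟨fun k => x.1 0 k.succ, Matrix.of fun i k => x.1 i.succ k.succ, ?_⟩
  obtain ⟨h0, h1⟩ := mem_pstab.mp hx
  ext i k
  refine Fin.cases ?_ (fun i' => ?_) i <;> refine Fin.cases ?_ (fun k' => ?_) k <;> simp [blk, h0, h1]

theorem uSL_mem (a : W n) : uSL a ∈ pstab n := by rw [mem_pstab, uSL_val]; simp [blk]

theorem mSL_mem (g : AutW n) : mSL g ∈ pstab n := by rw [mem_pstab, mSL_val]; simp [blk]

/-- The model. -/
def slModel (n : ℕ) : Model (pstab n) n where
  u a := ⟨uSL a, uSL_mem a⟩
  m := mSL.codRestrict (pstab n) mSL_mem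
  u_add a b := by
    apply Subtype.ext
    apply Subtype.ext
    show blk (co (a + b)) 1 = blk (co a) 1 * blk (co b) 1
    rw [blk_mul, Matrix.vecMul_one, mul_one, map_add, add_comm (co a)]
  u_inj a b h := co.injective (blk_inj (congrArg (fun x : pstab n => (x.1.1)) h)).1
  m_inj g h e := blockB_inj (blk_inj (congrArg (fun x : pstab n => (x.1.1)) e)).2
  conj g a := by
    rw [mul_inv_eq_iff_eq_mul]
    apply Subtype.ext
    apply Subtype.ext
    show blk 0 (blockB g) * blk (co a) 1 = blk (co (g a)) 1 * blk 0 (blockB g)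
    rw [blk_mul, blk_mul, Matrix.zero_vecMul, add_zero, zero_add, mul_one, one_mul]
    congr 1
    rw [← vecMul_blockB g a, Matrix.vecMul_vecMul, ← blockB_mul, inv_mul_cancel, blockB_one, Matrix.vecMul_one]
  sep g a e := blockB_inj ((blk_inj (congrArg (fun x : pstab n => (x.1.1)) e)).2.trans blockB_one.symm)
  gen x := by
    obtain ⟨a, B, hx⟩ := eq_blk x.2
    obtain ⟨a', B', hx'⟩ := eq_blk (inv_mem x.2)
    have h1 : blk a B * blk a' B' = 1 := by
      rw [← hx, ← hx', ← Matrix.SpecialLinearGroup.coe_mul, mul_inv_cancel]; rfl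
    rw [blk_mul, ← blk_one] at h1
    have hBB : B * B' = 1 := (blk_inj h1).2
    have hB'B : B' * B = 1 := mul_eq_one_comm.mp hBB
    let L : (Fin (n + 1) → ZMod 2) ≃ₗ[ZMod 2] (Fin (n + 1) → ZMod 2) :=
      LinearEquiv.ofLinear (Matrix.toLin' B.transpose) (Matrix.toLin' B'.transpose)
        (by rw [← Matrix.toLin'_mul, ← Matrix.transpose_mul, hB'B, Matrix.transpose_one, Matrix.toLin'_one])
        (by rw [← Matrix.toLin'_mul, ← Matrix.transpose_mul, hBB, Matrix.transpose_one, Matrix.toLin'_one])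
    let g : AutW n := (co.trans (L.trans co.symm)).symm
    have hg : blockB g = B := by
      unfold blockB
      have : co.toLinearMap.comp (g.symm.toLinearMap.comp co.symm.toLinearMap) = Matrix.toLin' B.transpose :=
        LinearMap.ext fun v => by
          show co (co.symm (L (co (co.symm v)))) = _
          rw [LinearEquiv.apply_symm_apply, LinearEquiv.apply_symm_apply]
          rfl
      rw [this, LinearMap.toMatrix'_toLin', Matrix.transpose_transpose]
    refine ⟨co.symm (Matrix.vecMul a B'), g, ?_⟩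
    apply Subtype.ext
    apply Subtype.ext
    show x.1.1 = blk (co (co.symm (Matrix.vecMul a B'))) 1 * blk 0 (blockB g)
    rw [hx, blk_mul, zero_add, one_mul, LinearEquiv.apply_symm_apply, hg, Matrix.vecMul_vecMul, hB'B,
      Matrix.vecMul_one]

theorem slModel_zz (n : ℕ) : (((slModel n).zz : pstab n) : SLn n).1 = Matrix.transvection 0 1 1 := by
  show blk (co (pt n)) 1 = _
  ext i k
  refine Fin.cases ?_ (fun i' => ?_) i <;> refine Fin.cases ?_ (fun k' => ?_) k
  · simp [blk, Matrix.transvection]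
  · rw [show (1 : Fin (n + 2)) = Fin.succ 0 from rfl]
    refine Fin.cases ?_ (fun j => ?_) k' <;> simp [blk, Matrix.transvection, co_apply, pt, Matrix.single,
      Fin.ext_iff, Fin.succ_ne_zero, (Fin.succ_ne_zero _).symm]
  · simp [blk, Matrix.transvection, Matrix.single, Fin.succ_ne_zero, (Fin.succ_ne_zero _).symm]
  · simp [blk, Matrix.transvection, Matrix.one_apply, Matrix.single, Fin.succ_ne_zero, (Fin.succ_ne_zero _).symm]

theorem centralizer_le_pstab {z : SLn n} (hz : (z : Matrix (Fin (n + 2)) (Fin (n + 2)) (ZMod 2)) = Matrix.transvection 0 1 1) :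
    Subgroup.centralizer ({z} : Set (SLn n)) ≤ pstab n := by
  intro x hx
  have h := congrArg (fun y : SLn n => (y : Matrix (Fin (n + 2)) (Fin (n + 2)) (ZMod 2)))
    (Subgroup.mem_centralizer_singleton_iff.mp hx)
  simp only [Matrix.SpecialLinearGroup.coe_mul, hz, Matrix.transvection, mul_add, add_mul, mul_one, one_mul,
    add_right_inj] at h
  have h0 : ∀ i : Fin (n + 1), x.1 i.succ 0 = 0 := fun i => by
    have := congrFun (congrFun h i.succ) 1
    rw [Matrix.mul_single_apply_same, Matrix.single_mul_apply_of_ne _ _ _ _ _ (Fin.succ_ne_zero i), mul_one] at this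
    exact this
  refine mem_pstab.mpr ⟨?_, h0⟩
  rcases two_cases (x.1 0 0) with e | e
  · exfalso
    have hdet : x.1.det = 0 := Matrix.det_eq_zero_of_column_eq_zero 0 fun i =>
      Fin.cases e h0 i
    rw [x.2] at hdet
    exact one_ne_zero hdet
  · exact e

/-- `GL = SL` over `F₂`. -/
noncomputable def glEquivSL (m : ℕ) :
    Matrix.GeneralLinearGroup (Fin m) (ZMod 2) ≃* Matrix.SpecialLinearGroup (Fin m) (ZMod 2) where
  toFun A := ⟨A.1, (two_cases A.1.det).resolve_left fun e => by
    have := congrArg Matrix.det A.mul_inv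
    rw [Matrix.det_mul, e, zero_mul, Matrix.det_one] at this
    exact zero_ne_one this⟩
  invFun A := Matrix.SpecialLinearGroup.toGL A
  left_inv A := Units.ext rfl
  right_inv A := Subtype.ext rfl
  map_mul' A B := Subtype.ext rfl

end CfsgLib.LargeExtra.Holo
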